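import Groth.Agent.Lib.QDepth.Local
import Groth.Agent.Lib.DMod.SupportDim
import Mathlib.Algebra.Module.LocalizedModule.Exact

/-!
Serre's conditions for kernels and reflexive modules.
-/

universe u v

open LocCoh IsLocalRing
open Groth.Agent.Lib.Depth

namespace Groth.Agent.Lib.QDepth

variable {R : Type u} [CommRing R] [IsNoetherianRing R]

section Localized

variable {M N P : Type u} [AddCommGroup M] [Module R M] [AddCommGroup N] [Module R N]
  [AddCommGroup P] [Module R P]

omit [IsNoetherianRing R] in
theorem localized_exact (p : Ideal R) [p.IsPrime] (f : M →ₗ[R] N) (g : N →ₗ[R] P)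
    (hf : Function.Injective f) (hfg : Function.Exact f g) :
    Function.Injective (LocalizedModule.map p.primeCompl f) ∧
      Function.Exact (LocalizedModule.map p.primeCompl f) (LocalizedModule.map p.primeCompl g) :=
  ⟨LocalizedModule.map_injective p.primeCompl f hf, LocalizedModule.map_exact p.primeCompl f g hfg⟩

omit [IsNoetherianRing R] in
theorem supportDim_le_of_injective (p : Ideal R) [p.IsPrime] (f : M →ₗ[R] N)
    (hf : Function.Injective f) :
    Module.supportDim (Localization.AtPrime p) (LocalizedModule p.primeCompl M) ≤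
      Module.supportDim (Localization.AtPrime p) (LocalizedModule p.primeCompl N) :=
  Module.supportDim_le_of_injective (LocalizedModule.map p.primeCompl f)
    (LocalizedModule.map_injective p.primeCompl f hf)

end Localized

/-- the natural number `min k d`. -/
theorem le_depth_of_hasSk {k : ℕ} {M : Type v} [AddCommGroup M] [Module R M] (h : HasSk k R M)
    (p : Ideal R) [p.IsPrime] {j : ℕ} (hj : j ≤ k)
    (hd : ((j : ℕ∞) : WithBot ℕ∞) ≤
      Module.supportDim (Localization.AtPrime p) (LocalizedModule p.primeCompl M)) :
    (j : ℕ∞) ≤ depth (Localization.AtPrime p) (LocalizedModule p.primeCompl M) := by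
  have : ((j : ℕ∞) : WithBot ℕ∞) ≤ ((depth (Localization.AtPrime p)
      (LocalizedModule p.primeCompl M) : ℕ∞) : WithBot ℕ∞) :=
    le_trans (le_min (by exact_mod_cast hj) hd) (h p)
  exact WithBot.coe_le_coe.mp this

/-- To prove `S_k`, it suffices to prove `j ≤ depth M_p` for `j ≤ min k (dim M_p)`. -/
theorem hasSk_of_forall {k : ℕ} {M : Type v} [AddCommGroup M] [Module R M]
    (h : ∀ (p : Ideal R) [p.IsPrime] (j : ℕ), j ≤ k → ((j : ℕ∞) : WithBot ℕ∞) ≤
        Module.supportDim (Localization.AtPrime p) (LocalizedModule p.primeCompl M) →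
      (j : ℕ∞) ≤ depth (Localization.AtPrime p) (LocalizedModule p.primeCompl M)) :
    HasSk k R M := by
  intro p hp
  cases hd : Module.supportDim (Localization.AtPrime p) (LocalizedModule p.primeCompl M) with
  | bot => exact le_trans (min_le_right _ _) bot_le
  | coe d =>
    cases d with
    | top =>
      exact le_trans (min_le_left _ _)
        (WithBot.coe_le_coe.mpr (h p k le_rfl (by rw [hd]; exact WithBot.coe_le_coe.mpr le_top)))
    | coe d =>
      rcases le_total k d with hle | hle
      · exact le_trans (min_le_left _ _)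
          (WithBot.coe_le_coe.mpr (h p k le_rfl (by rw [hd]; exact WithBot.coe_le_coe.mpr (Nat.cast_le.mpr hle))))
      · exact le_trans (min_le_right _ _)
          (WithBot.coe_le_coe.mpr (h p d hle (by rw [hd])))

section Ker

variable {M N P : Type u} [AddCommGroup M] [Module R M] [AddCommGroup N] [Module R N]
  [AddCommGroup P] [Module R P] [Module.Finite R M] [Module.Finite R N] [Module.Finite R P]

theorem hasSk_one_of_injective (f : M →ₗ[R] N) (hf : Function.Injective f) (hN : HasSk 1 R N) :
    HasSk 1 R M := by
  refine hasSk_of_forall fun p _ j hj hd => ?_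
  have hN' := le_depth_of_hasSk hN p hj (hd.trans (supportDim_le_of_injective p f hf))
  interval_cases j
  · simp
  · exact_mod_cast one_le_of_injective _ (LocalizedModule.map p.primeCompl f)
      (LocalizedModule.map_injective p.primeCompl f hf) (by exact_mod_cast hN')

theorem hasSk_two_of_exact (f : M →ₗ[R] N) (g : N →ₗ[R] P) (hf : Function.Injective f)
    (hfg : Function.Exact f g) (hsupp : Module.support R M ⊆ Module.support R P)
    (hP : HasSk 1 R P) (hN : HasSk 2 R N) : HasSk 2 R M := by
  refine hasSk_of_forall fun p _ j hj hd => ?_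
  have hN' := le_depth_of_hasSk hN p hj (hd.trans (supportDim_le_of_injective p f hf))
  refine le_of_exact_of_le_two _ (LocalizedModule.map p.primeCompl f)
    (LocalizedModule.map p.primeCompl g) (localized_exact p f g hf hfg).1
    (localized_exact p f g hf hfg).2 hj hN' ?_
  refine le_depth_of_hasSk hP p (by omega) ?_
  refine le_trans ?_ (hd.trans ?_)
  · exact WithBot.coe_le_coe.mpr (Nat.cast_le.mpr (Nat.sub_le j 1))
  · rw [Module.supportDim, Module.supportDim]
    refine Order.krullDim_le_of_strictMono (fun q => ⟨q.1, ?_⟩) (fun a b h => h)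
    exact (DMod.SupportDim.comap_mem_support_iff ⟨p, inferInstance⟩ P q.1).mpr
      (hsupp ((DMod.SupportDim.comap_mem_support_iff ⟨p, inferInstance⟩ M q.1).mp q.2))

end Ker

/-- depth of a localized finite free module. -/
theorem le_depth_localized_pi (p : Ideal R) [p.IsPrime] {j : ℕ}
    (h : (j : ℕ∞) ≤ depth (Localization.AtPrime p) (LocalizedModule p.primeCompl R)) (n : ℕ) :
    (j : ℕ∞) ≤ depth (Localization.AtPrime p) (LocalizedModule p.primeCompl (Fin n → R)) := by
  induction n with
  | zero =>
    have : Subsingleton (LocalizedModule p.primeCompl (Fin 0 → R)) :=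
      (LocalizedModule.subsingleton_iff (S := p.primeCompl)).mpr fun m =>
        ⟨1, p.primeCompl.one_mem, Subsingleton.elim _ _⟩
    rw [depth, Basic.idealDepth_subsingleton (M := LocalizedModule p.primeCompl (Fin 0 → R))]
    exact le_top
  | succ n ih =>
    let e : (Fin (n + 1) → R) ≃ₗ[R] R × (Fin n → R) := (Fin.consLinearEquiv R fun _ => R).symm
    have h1 : Function.Injective (e.symm.toLinearMap ∘ₗ LinearMap.inl R R (Fin n → R)) :=
      e.symm.injective.comp LinearMap.inl_injective
    have h2 : Function.Surjective (LinearMap.snd R R (Fin n → R) ∘ₗ e.toLinearMap) :=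
      (LinearMap.snd_surjective (R := R) (M := R) (M₂ := Fin n → R)).comp e.surjective
    let f' := e.symm.toLinearMap ∘ₗ LinearMap.inl R R (Fin n → R)
    let g' := LinearMap.snd R R (Fin n → R) ∘ₗ e.toLinearMap
    have h3 : Function.Exact (e.symm.toLinearMap ∘ₗ LinearMap.inl R R (Fin n → R))
        (LinearMap.snd R R (Fin n → R) ∘ₗ e.toLinearMap) := by
      intro y
      simp only [LinearMap.comp_apply, LinearEquiv.coe_coe, Set.mem_range, LinearMap.snd_apply,
        LinearEquiv.symm_apply_eq]
      exact ⟨fun hy => ⟨(e y).1, Prod.ext rfl hy.symm⟩, fun ⟨x, hx⟩ => by rw [← hx]; rfl⟩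
    exact SES.le_idealDepth_middle _ (f := LocalizedModule.map p.primeCompl f')
      (g := LocalizedModule.map p.primeCompl g') (LocalizedModule.map_injective p.primeCompl _ h1)
      (LocalizedModule.map_exact p.primeCompl _ _ h3)
      (LocalizedModule.map_surjective p.primeCompl _ h2) h ih

/-- A finite reflexive module inherits `S_k` (`k ≤ 2`) from the ring. -/
theorem hasSk_of_isReflexive (G : Type u) [AddCommGroup G] [Module R G] [Module.Finite R G]
    [Module.IsReflexive R G] {k : ℕ} (hk : k ≤ 2) (hR : HasSk k R R) : HasSk k R G := by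
  obtain ⟨n, m, g, u, hg, hgu⟩ := exists_exact_of_isReflexive (R := R) G
  refine hasSk_of_forall fun p _ j hj hd => ?_
  have hdim : ((j : ℕ∞) : WithBot ℕ∞) ≤
      Module.supportDim (Localization.AtPrime p) (LocalizedModule p.primeCompl R) := by
    refine hd.trans ((Module.supportDim_le_ringKrullDim _ _).trans (le_of_eq ?_))
    exact (Module.supportDim_self_eq_ringKrullDim (R := Localization.AtPrime p)).symm
  have hj' := le_depth_of_hasSk hR p hj hdim
  exact le_of_exact_of_le_two _ (LocalizedModule.map p.primeCompl g)
    (LocalizedModule.map p.primeCompl u) (localized_exact p g u hg hgu).1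
    (localized_exact p g u hg hgu).2 (hj.trans hk) (le_depth_localized_pi p hj' n)
    (le_depth_localized_pi p ((Nat.cast_le.mpr (Nat.sub_le j 1)).trans hj') m)

end Groth.Agent.Lib.QDepth
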