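import Groth.Agent.Lib.Depth.CM
import Mathlib.RingTheory.Ideal.AssociatedPrime.Localization

/-!
Ideal depth as the infimum of local depths, and depth of kernels.
-/

universe u v

open RingTheory.Sequence Pointwise LocCoh IsLocalRing
open Groth.Agent.Lib.Depth

namespace Groth.Agent.Lib.QDepth

variable {R : Type u} [CommRing R] [IsNoetherianRing R]

instance finite_localized (p : Ideal R) [p.IsPrime] (M : Type v) [AddCommGroup M] [Module R M]
    [Module.Finite R M] :
    Module.Finite (Localization.AtPrime p) (LocalizedModule p.primeCompl M) :=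
  Module.Finite.of_isLocalizedModule p.primeCompl (Rₚ := Localization.AtPrime p)
    (LocalizedModule.mkLinearMap p.primeCompl M)

theorem smul_top_eq_top_of_mem_support {M : Type v} [AddCommGroup M] [Module R M] [Module.Finite R M]
    (p : PrimeSpectrum R) (hp : p ∈ Module.support R M) :
    p.asIdeal • (⊤ : Submodule R M) ≠ ⊤ := by
  intro h
  obtain ⟨r, hr1, hr2⟩ := Submodule.exists_sub_one_mem_and_smul_eq_zero_of_fg_of_le_smul p.asIdeal
    (⊤ : Submodule R M) Module.Finite.fg_top h.ge
  have hrp : r ∉ p.asIdeal := fun hr => p.isPrime.ne_top ((Ideal.eq_top_iff_one _).mpr (by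
    simpa using sub_mem hr hr1))
  exact hrp (Module.annihilator_le_of_mem_support hp (Module.mem_annihilator.mpr fun m => hr2 m trivial))

theorem idealDepth_le_depth_at (I : Ideal R) (M : Type u) [AddCommGroup M] [Module R M]
    [Module.Finite R M] (p : PrimeSpectrum R) (hIp : I ≤ p.asIdeal) :
    idealDepth I M ≤
      depth (Localization.AtPrime p.asIdeal) (LocalizedModule p.asIdeal.primeCompl M) := by
  by_cases hp : p ∈ Module.support R M
  · exact (Basic.idealDepth_mono hIp (smul_top_eq_top_of_mem_support p hp)).trans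
      (CM.idealDepth_le_depth_localization p.asIdeal)
  · have := Module.notMem_support_iff.mp hp
    rw [depth, Basic.idealDepth_subsingleton (M := LocalizedModule p.asIdeal.primeCompl M)]
    exact le_top

/-- `depth_I M ≥ n` iff `depth M_p ≥ n` at all primes containing `I`. -/
theorem le_idealDepth_iff_forall (I : Ideal R) (M : Type u) [AddCommGroup M] [Module R M]
    [Module.Finite R M] (n : ℕ) :
    (n : ℕ∞) ≤ idealDepth I M ↔ ∀ p : PrimeSpectrum R, I ≤ p.asIdeal →
      (n : ℕ∞) ≤ depth (Localization.AtPrime p.asIdeal) (LocalizedModule p.asIdeal.primeCompl M) := by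
  refine ⟨fun h p hp => h.trans (idealDepth_le_depth_at I M p hp), fun h => ?_⟩
  induction n generalizing M with
  | zero => simp
  | succ n ih =>
    by_cases hI : I • (⊤ : Submodule R M) = ⊤
    · rw [Basic.idealDepth_of_smul_top_eq hI]; exact le_top
    obtain ⟨x, hx, hreg⟩ : ∃ x ∈ I, IsSMulRegular M x := by
      rw [Assoc.exists_isSMulRegular_iff]
      intro q hq hIq
      have := IsAssociatedPrime.isPrime hq
      have hmax := Module.associatedPrimes.mem_associatedPrimes_atPrime_of_mem_associatedPrimes
        (M := M) hq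
      have : Nontrivial (LocalizedModule q.primeCompl M) := by
        by_contra hc
        have := not_nontrivial_iff_subsingleton.mp hc
        exact absurd hmax (by simp [associatedPrimes.eq_empty_of_subsingleton])
      have h0 := (Assoc.depth_eq_zero_iff (R := Localization.AtPrime q)
        (M := LocalizedModule q.primeCompl M)).mpr hmax
      have := h ⟨q, ‹_›⟩ hIq
      rw [h0] at this
      exact absurd this (by simp)
    rw [SES.succ_le_idealDepth_iff I hx hreg]
    refine ih _ fun p hp => ?_
    have hxp : algebraMap R (Localization.AtPrime p.asIdeal) x ∈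
        maximalIdeal (Localization.AtPrime p.asIdeal) :=
      (IsLocalization.AtPrime.to_map_mem_maximal_iff _ p.asIdeal x).mpr (hp hx)
    have hregp : IsSMulRegular (LocalizedModule p.asIdeal.primeCompl M)
        (algebraMap R (Localization.AtPrime p.asIdeal) x) := by
      have := IsWeaklyRegular.of_isLocalizedModule (Localization.AtPrime p.asIdeal) p.asIdeal.primeCompl
        (LocalizedModule.mkLinearMap p.asIdeal.primeCompl M)
        ((isWeaklyRegular_singleton_iff M x).mpr hreg)
      simpa using this
    rw [Basic.depth_congr (CM.quotSMulTopLocalizedEquiv p.asIdeal M x)]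
    exact (SES.succ_le_idealDepth_iff _ hxp hregp n).mp (h p hp)

section SES

variable {M N : Type u} [AddCommGroup M] [Module R M] [AddCommGroup N] [Module R N]
  [Module.Finite R M] [Module.Finite R N]

theorem one_le_of_injective (I : Ideal R) (f : M →ₗ[R] N) (hf : Function.Injective f)
    (hN : 1 ≤ idealDepth I N) : 1 ≤ idealDepth I M := by
  have := SES.le_idealDepth_left I (g := (LinearMap.range f).mkQ) (n := 1) hf
    (by rw [LinearMap.exact_iff, Submodule.ker_mkQ]) (Submodule.mkQ_surjective _)
    (by simpa using hN) (by simp)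
  simpa using this

theorem two_le_of_exact {P : Type u} [AddCommGroup P] [Module R P] [Module.Finite R P]
    (I : Ideal R) (f : M →ₗ[R] N) (g : N →ₗ[R] P) (hf : Function.Injective f)
    (hfg : Function.Exact f g)
    (hN : 2 ≤ idealDepth I N) (hP : 1 ≤ idealDepth I P) : 2 ≤ idealDepth I M := by
  have h1 := one_le_of_injective I (LinearMap.range g).subtype Subtype.val_injective hP
  have := SES.le_idealDepth_left I (g := g.rangeRestrict) (n := 2) hf
    (by rw [LinearMap.exact_iff, LinearMap.ker_rangeRestrict]; exact LinearMap.exact_iff.mp hfg)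
    g.surjective_rangeRestrict (by simpa using hN) (by simpa using h1)
  simpa using this

/-- depth of the kernel, for `k ≤ 2`. -/
theorem le_of_exact_of_le_two {P : Type u} [AddCommGroup P] [Module R P] [Module.Finite R P]
    (I : Ideal R) (f : M →ₗ[R] N) (g : N →ₗ[R] P) (hf : Function.Injective f)
    (hfg : Function.Exact f g) {k : ℕ} (hk : k ≤ 2)
    (hN : (k : ℕ∞) ≤ idealDepth I N) (hP : ((k - 1 : ℕ) : ℕ∞) ≤ idealDepth I P) :
    (k : ℕ∞) ≤ idealDepth I M := by
  interval_cases k
  · simp
  · simpa using one_le_of_injective I f hf (by simpa using hN)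
  · simpa using two_le_of_exact I f g hf hfg (by simpa using hN) (by simpa using hP)

/-- A module supported in `V(I)` of positive `I`-depth is zero. -/
theorem subsingleton_of_one_le (I : Ideal R) (hsupp : ∀ p ∈ Module.support R M, I ≤ p.asIdeal)
    (h : 1 ≤ idealDepth I M) : Subsingleton M := by
  by_contra hc
  have := not_subsingleton_iff_nontrivial.mp hc
  obtain ⟨q, hq⟩ := associatedPrimes.nonempty R M
  have hqp := IsAssociatedPrime.isPrime hq
  have hmem : (⟨q, hqp⟩ : PrimeSpectrum R) ∈ Module.support R M :=
    Module.mem_support_iff'.mpr (by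
      obtain ⟨-, m, hm⟩ := hq
      refine ⟨m, fun r hr h0 => hr ?_⟩
      show r ∈ q
      rw [hm]
      exact Ideal.le_radical (by simpa [Submodule.mem_colon_singleton] using h0))
  have hIq := hsupp _ hmem
  rcases (Assoc.one_le_idealDepth_iff_forall I M).mp h with h' | h'
  · exact smul_top_eq_top_of_mem_support _ hmem
      (top_le_iff.mp (h'.ge.trans (Submodule.smul_mono_left hIq)))
  · exact h' q hq hIq

end SES

/-- depth of a finite free module. -/
theorem le_idealDepth_pi (I : Ideal R) {k : ℕ} (h : (k : ℕ∞) ≤ idealDepth I R) (n : ℕ) :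
    (k : ℕ∞) ≤ idealDepth I (Fin n → R) := by
  induction n with
  | zero => rw [Basic.idealDepth_subsingleton (M := Fin 0 → R)]; exact le_top
  | succ n ih =>
    let e : (Fin (n + 1) → R) ≃ₗ[R] R × (Fin n → R) := (Fin.consLinearEquiv R fun _ => R).symm
    rw [Basic.idealDepth_congr I e]
    exact SES.le_idealDepth_middle I (f := LinearMap.inl R R (Fin n → R))
      (g := LinearMap.snd R R (Fin n → R)) LinearMap.inl_injective
      Function.Exact.inl_snd LinearMap.snd_surjective h ih

/-- A reflexive finite module is the kernel of a map of finite free modules. -/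
theorem exists_exact_of_isReflexive (G : Type u) [AddCommGroup G] [Module R G] [Module.Finite R G]
    [Module.IsReflexive R G] :
    ∃ (n m : ℕ) (g : G →ₗ[R] (Fin n → R)) (h : (Fin n → R) →ₗ[R] (Fin m → R)),
      Function.Injective g ∧ Function.Exact g h := by
  have : Module.Finite R (Module.Dual R G) := Module.Finite.of_injective
    (LinearMap.lcomp R R (Module.Finite.exists_fin' R G).choose_spec.choose)
    (LinearMap.lcomp_injective_of_surjective _ (Module.Finite.exists_fin' R G).choose_spec.choose_spec)
  obtain ⟨n, π, hπ⟩ := Module.Finite.exists_fin' R (Module.Dual R G)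
  obtain ⟨m, u, hu⟩ := Module.Finite.exists_fin' R (LinearMap.ker π)
  let e : ∀ k : ℕ, Module.Dual R (Fin k → R) ≃ₗ[R] (Fin k → R) := fun k =>
    LinearEquiv.piRing R R (Fin k) R
  have hex : Function.Exact ((LinearMap.ker π).subtype ∘ₗ u) π := by
    rw [LinearMap.exact_iff, LinearMap.range_comp, LinearMap.range_eq_top.mpr hu, Submodule.map_top,
      Submodule.range_subtype]
  refine ⟨n, m, (e n).toLinearMap ∘ₗ π.dualMap ∘ₗ Module.Dual.eval R G,
    (e m).toLinearMap ∘ₗ ((LinearMap.ker π).subtype ∘ₗ u).dualMap ∘ₗ (e n).symm.toLinearMap, ?_, ?_⟩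
  · exact (e n).injective.comp ((LinearMap.dualMap_injective_of_surjective hπ).comp
      (Module.bijective_dual_eval R G).injective)
  · intro y
    have hd := LinearMap.exact_lcomp_of_exact_of_surjective (N := R) hex hπ ((e n).symm y)
    simp only [LinearMap.comp_apply, LinearEquiv.coe_coe, LinearEquiv.map_eq_zero_iff,
      Set.mem_range]
    refine hd.trans ⟨?_, ?_⟩
    · rintro ⟨φ, hφ⟩
      obtain ⟨x, rfl⟩ := (Module.bijective_dual_eval R G).surjective φ
      exact ⟨x, ((e n).eq_symm_apply).mp hφ⟩
    · rintro ⟨x, hx⟩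
      exact ⟨Module.Dual.eval R G x, ((e n).eq_symm_apply).mpr hx⟩

/-- depth `≤ 2` passes from the ring to a finite reflexive module. -/
theorem le_idealDepth_of_isReflexive (I : Ideal R) (G : Type u) [AddCommGroup G] [Module R G]
    [Module.Finite R G] [Module.IsReflexive R G] {k : ℕ} (hk : k ≤ 2)
    (h : (k : ℕ∞) ≤ idealDepth I R) : (k : ℕ∞) ≤ idealDepth I G := by
  obtain ⟨n, m, g, u, hg, hgu⟩ := exists_exact_of_isReflexive (R := R) G
  exact le_of_exact_of_le_two I g u hg hgu hk (le_idealDepth_pi I h n)
    (le_idealDepth_pi I ((Nat.cast_le.mpr (Nat.sub_le k 1)).trans h) m)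

end Groth.Agent.Lib.QDepth
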