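import Groth.Prelude.Def_EGA4b
import Groth.Agent.Lib.QDepth.Local
import Groth.Agent.Lib.LocalFlat.InjMod
import Groth.Agent.Lib.LocalFlat.Localized
import Mathlib.RingTheory.Flat.Localization
import Mathlib.LinearAlgebra.TensorProduct.Quotient

/-!
Depth of a flat module from the depth of its fibre.
-/

universe u v

open LocCoh IsLocalRing Pointwise TensorProduct
open Groth.Agent.Lib.Depth

namespace Groth.Agent.Lib.QDepth

section Local

variable {A B : Type u} [CommRing A] [CommRing B] [IsLocalRing A] [IsLocalRing B]
  [IsNoetherianRing A] [IsNoetherianRing B] [Algebra A B] [IsLocalHom (algebraMap A B)]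

omit [IsLocalRing B] [IsNoetherianRing A] [IsNoetherianRing B] [IsLocalHom (algebraMap A B)] in
theorem restrictScalars_smul_top (M : Type u) [AddCommGroup M] [Module A M] [Module B M]
    [IsScalarTower A B M] :
    ((maximalIdeal A).map (algebraMap A B) • (⊤ : Submodule B M)).restrictScalars A =
      maximalIdeal A • (⊤ : Submodule A M) := by
  rw [Ideal.smul_restrictScalars, Submodule.restrictScalars_top]

/-- An element regular on the closed fibre is regular, with flat cokernel. -/
theorem regular_of_fibre {M : Type u} [AddCommGroup M] [Module A M] [Module B M]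
    [IsScalarTower A B M] [Module.Finite B M] [Module.Flat A M] (x : B)
    (hx : ∀ m : M, x • m ∈ (maximalIdeal A).map (algebraMap A B) • (⊤ : Submodule B M) →
      m ∈ (maximalIdeal A).map (algebraMap A B) • (⊤ : Submodule B M)) :
    IsSMulRegular M x ∧ Module.Flat A (QuotSMulTop x M) := by
  let u : M →ₗ[A] M := (LinearMap.lsmul B M x).restrictScalars A
  let e := TensorProduct.quotTensorEquivQuotSMul M (maximalIdeal A)
  have h : Function.Injective (u.lTensor (ResidueField A)) := by
    have key : ∀ z : (A ⧸ maximalIdeal A) ⊗[A] M, e (u.lTensor _ z) =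
        Submodule.mapQ _ _ u (by
          rw [← Submodule.map_le_iff_le_comap, Submodule.map_smul'']
          exact Submodule.smul_mono le_rfl le_top) (e z) := by
      intro z
      induction z using TensorProduct.induction_on with
      | zero => simp
      | add a b ha hb => simp only [map_add, ha, hb]
      | tmul r m =>
        obtain ⟨r, rfl⟩ := Ideal.Quotient.mk_surjective r
        simp [e, u, Submodule.mapQ_apply, map_smul]
    suffices hs : Function.Injective (u.lTensor (A ⧸ maximalIdeal A)) from hs
    rw [injective_iff_map_eq_zero]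
    intro z hz
    have := key z
    rw [show u.lTensor (A ⧸ maximalIdeal A) z = 0 from hz, map_zero] at this
    apply e.injective
    rw [map_zero]
    obtain ⟨m, hm⟩ := Submodule.mkQ_surjective _ (e z)
    rw [← hm, Submodule.mkQ_apply, Submodule.mapQ_apply, eq_comm, Submodule.Quotient.mk_eq_zero] at this
    rw [← hm, Submodule.mkQ_apply, Submodule.Quotient.mk_eq_zero]
    rw [← restrictScalars_smul_top (B := B), Submodule.restrictScalars_mem] at this ⊢
    exact hx m this
  refine ⟨LocalFlat.InjMod.injective_of_injective_mod u h B, ?_⟩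
  have hflat := LocalFlat.InjMod.flat_coker u h B
  have heq : LinearMap.range u = (x • (⊤ : Submodule B M)).restrictScalars A := by
    ext m
    simp [u, Submodule.mem_smul_pointwise_iff_exists, eq_comm]
  refine Module.Flat.of_linearEquiv (?_ : QuotSMulTop x M ≃ₗ[A] M ⧸ LinearMap.range u)
  exact (Submodule.Quotient.restrictScalarsEquiv A _).symm ≪≫ₗ Submodule.quotEquivOfEq _ _ heq.symm

/-- If the closed fibre `Q` of a flat module `M` has `J`-depth `≥ n`, so has `M`. -/
theorem le_idealDepth_of_fibre (J : Ideal B) {M Q : Type u} [AddCommGroup M] [Module A M] [Module B M]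
    [IsScalarTower A B M] [Module.Finite B M] [Module.Flat A M] [AddCommGroup Q] [Module B Q]
    (π : M →ₗ[B] Q) (hπ : Function.Surjective π)
    (hker : LinearMap.ker π = (maximalIdeal A).map (algebraMap A B) • (⊤ : Submodule B M))
    {n : ℕ} (h : (n : ℕ∞) ≤ idealDepth J Q) : (n : ℕ∞) ≤ idealDepth J M := by
  induction n generalizing M Q with
  | zero => simp
  | succ n ih =>
    by_cases hJ : J = ⊤
    · rw [Basic.idealDepth_of_smul_top_eq (by rw [hJ, Submodule.top_smul])]; exact le_top
    rcases subsingleton_or_nontrivial M with hM | hM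
    · rw [Basic.idealDepth_subsingleton]; exact le_top
    have hQ : J • (⊤ : Submodule B Q) ≠ ⊤ := by
      intro hc
      have h1 : J • (⊤ : Submodule B M) ⊔ (maximalIdeal A).map (algebraMap A B) • ⊤ = ⊤ := by
        rw [← hker, ← Submodule.comap_map_eq, Basic.smul_top_map J π hπ, hc, Submodule.comap_top]
      have hle : (J ⊔ (maximalIdeal A).map (algebraMap A B)) ≠ ⊤ := by
        intro ht
        have : J ⊔ (maximalIdeal A).map (algebraMap A B) ≤ maximalIdeal B :=
          sup_le (le_maximalIdeal hJ) (((local_hom_TFAE (algebraMap A B)).out 0 2).mp ‹_›)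
        rw [ht, top_le_iff] at this
        exact Ideal.IsPrime.ne_top' this
      refine Basic.smul_top_ne_top (M := M) hle ?_
      rwa [Submodule.sup_smul]
    obtain ⟨x, hxJ, hreg, hn⟩ := Basic.exists_isSMulRegular_of_succ_le hQ h
    have hfib : ∀ m : M, x • m ∈ LinearMap.ker π → m ∈ LinearMap.ker π := by
      intro m hm
      rw [LinearMap.mem_ker, map_smul] at hm
      exact hreg (show x • π m = x • 0 by rw [hm, smul_zero])
    rw [hker] at hfib
    obtain ⟨hMreg, hMflat⟩ := regular_of_fibre (A := A) x hfib
    rw [SES.succ_le_idealDepth_iff J hxJ hMreg]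
    have hmap : x • (⊤ : Submodule B M) ≤ (x • (⊤ : Submodule B Q)).comap π := by
      intro m hm
      obtain ⟨y, -, rfl⟩ := (Submodule.mem_smul_pointwise_iff_exists _ _ _).mp hm
      rw [Submodule.mem_comap, map_smul]
      exact Submodule.smul_mem_pointwise_smul _ _ _ Submodule.mem_top
    refine ih (Submodule.mapQ _ _ π hmap : QuotSMulTop x M →ₗ[B] QuotSMulTop x Q) ?_ ?_ hn
    · intro q
      obtain ⟨q, rfl⟩ := Submodule.mkQ_surjective _ q
      obtain ⟨m, rfl⟩ := hπ q
      exact ⟨Submodule.mkQ _ m, rfl⟩
    · refine le_antisymm ?_ ?_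
      · intro q hq
        obtain ⟨m, rfl⟩ := Submodule.mkQ_surjective _ q
        rw [LinearMap.mem_ker, Submodule.mkQ_apply, Submodule.mapQ_apply,
          Submodule.Quotient.mk_eq_zero] at hq
        obtain ⟨r, -, hr⟩ := (Submodule.mem_smul_pointwise_iff_exists _ _ _).mp hq
        obtain ⟨y, rfl⟩ := hπ r
        have hmy : m - x • y ∈ LinearMap.ker π := by
          rw [LinearMap.mem_ker, map_sub, map_smul, hr, sub_self]
        rw [hker] at hmy
        have : Submodule.mkQ (x • (⊤ : Submodule B M)) m =
            Submodule.mkQ (x • (⊤ : Submodule B M)) (m - x • y) := by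
          rw [map_sub, eq_comm, sub_eq_self, Submodule.mkQ_apply, Submodule.Quotient.mk_eq_zero]
          exact Submodule.smul_mem_pointwise_smul _ _ _ Submodule.mem_top
        rw [this, ← Basic.smul_top_map _ _ (Submodule.mkQ_surjective _)]
        exact Submodule.mem_map_of_mem hmy
      · rw [← Basic.smul_top_map _ _ (Submodule.mkQ_surjective _), Submodule.map_le_iff_le_comap,
          ← hker]
        intro m hm
        simp only [Submodule.mem_comap, LinearMap.mem_ker, Submodule.mkQ_apply, Submodule.mapQ_apply]
        rw [LinearMap.mem_ker.mp hm, Submodule.Quotient.mk_zero]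

end Local

/-- A localization over `B` of an `A`-flat module is `A`-flat. -/
theorem flat_localized {A B : Type u} [CommRing A] [CommRing B] [Algebra A B] (W : Submonoid B)
    (E : Type u) [AddCommGroup E] [Module B E] [Module A E] [IsScalarTower A B E] [Module.Flat A E] :
    Module.Flat A (LocalizedModule W E) := by
  rw [Module.Flat.iff_lTensor_preserves_injective_linearMap]
  intro N N' _ _ _ _ f hf
  exact LocalFlat.Localized.lTensor_injective_of_isLocalizedModule (R := A) (S := B) (M := E)
    (M' := LocalizedModule W E) W (LocalizedModule.mkLinearMap W E) f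
      (Module.Flat.lTensor_preserves_injective_linearMap (R := A) (M := E) f hf)

section AtPrime

variable {A B : Type u} [CommRing A] [CommRing B] [IsNoetherianRing A] [IsNoetherianRing B]
  [Algebra A B]

/-- depth of `E_q` from depth of the fibre stalk, for `E` flat over `A`. -/
theorem le_depth_of_fibLocMod (q : PrimeSpectrum B) (E : Type u) [AddCommGroup E] [Module B E]
    [Module A E] [IsScalarTower A B E] [Module.Finite B E] [Module.Flat A E] {n : ℕ}
    (h : (n : ℕ∞) ≤ idealDepth (q.asIdeal.map (algebraMap B (EGA4.FibLocRing A B q.asIdeal)))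
      (EGA4.FibLocMod A B q.asIdeal E)) :
    (n : ℕ∞) ≤ depth (Localization.AtPrime q.asIdeal) (LocalizedModule q.asIdeal.primeCompl E) := by
  let p := q.asIdeal.comap (algebraMap A B)
  let Ap := Localization.AtPrime p
  let Bq := Localization.AtPrime q.asIdeal
  let Eq := LocalizedModule q.asIdeal.primeCompl E
  let φ : Ap →+* Bq := Localization.localRingHom p q.asIdeal (algebraMap A B) rfl
  letI : Algebra Ap Bq := φ.toAlgebra
  haveI : IsLocalHom (algebraMap Ap Bq) :=
    inferInstanceAs (IsLocalHom (Localization.localRingHom p q.asIdeal (algebraMap A B) rfl))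
  haveI : IsScalarTower A Ap Bq := IsScalarTower.of_algebraMap_eq fun a => by
    rw [RingHom.algebraMap_toAlgebra, Localization.localRingHom_to_map]
    exact (IsScalarTower.algebraMap_apply A B Bq a)
  letI : Module Ap Eq := Module.compHom Eq φ
  haveI : IsScalarTower Ap Bq Eq := IsScalarTower.of_algebraMap_smul fun _ _ => rfl
  haveI : IsScalarTower A Ap Eq := IsScalarTower.of_algebraMap_smul fun a m => by
    show φ (algebraMap A Ap a) • m = a • m
    rw [show φ (algebraMap A Ap a) = algebraMap A Bq a from
      (IsScalarTower.algebraMap_apply A Ap Bq a).symm, algebraMap_smul]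
  haveI : Module.Flat A Eq := flat_localized q.asIdeal.primeCompl E
  haveI : Module.Flat Ap Eq := (Module.flat_iff_of_isLocalization Ap p.primeCompl Eq).mpr inferInstance
  have hI : (maximalIdeal Ap).map (algebraMap Ap Bq) = p.map (algebraMap A Bq) := by
    rw [← Localization.AtPrime.map_eq_maximalIdeal, Ideal.map_map, ← IsScalarTower.algebraMap_eq]
  refine le_idealDepth_of_fibre (A := Ap) (maximalIdeal Bq)
    (Submodule.mkQ ((p.map (algebraMap A Bq)) • (⊤ : Submodule Bq Eq))) (Submodule.mkQ_surjective _)
    (by rw [Submodule.ker_mkQ, hI]) ?_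
  refine h.trans (le_of_eq ?_)
  rw [show q.asIdeal.map (algebraMap B (EGA4.FibLocRing A B q.asIdeal)) =
      (maximalIdeal Bq).map (algebraMap Bq (EGA4.FibLocRing A B q.asIdeal)) by
    rw [← Localization.AtPrime.map_eq_maximalIdeal, Ideal.map_map, ← IsScalarTower.algebraMap_eq]]
  exact (Basic.idealDepth_eq_map_of_surjective Ideal.Quotient.mk_surjective (maximalIdeal Bq)).symm

end AtPrime

end Groth.Agent.Lib.QDepth

namespace Groth.Agent.Lib.QDepth

/-- The fibre stalk of the ring itself is the fibre local ring. -/
noncomputable def fibLocRingEquiv (A B : Type u) [CommRing A] [CommRing B] [Algebra A B] (q : Ideal B)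
    [q.IsPrime] : EGA4.FibLocMod A B q B ≃ₗ[EGA4.FibLocRing A B q] EGA4.FibLocRing A B q :=
  let e : EGA4.FibLocMod A B q B ≃ₗ[Localization.AtPrime q] EGA4.FibLocRing A B q :=
    Submodule.quotEquivOfEq _ _ (by exact Ideal.mul_top _)
  LinearEquiv.extendScalarsOfSurjective (R := Localization.AtPrime q) Ideal.Quotient.mk_surjective e

end Groth.Agent.Lib.QDepth
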