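import Groth.Agent.Lib.QDepth.FlatFibre
import Groth.Agent.Lib.Depth.Ext

/-!
Elementary characterisation of depth two.
-/

universe u v w

open LocCoh IsLocalRing Pointwise
open Groth.Agent.Lib.Depth

namespace Groth.Agent.Lib.QDepth

variable {R : Type u} [CommRing R]

/-- No nonzero element is killed by `J`, and every map `J → M` is given by an element. -/
structure Two (J : Ideal R) (M : Type v) [AddCommGroup M] [Module R M] : Prop where
  zero : ∀ m : M, (∀ a ∈ J, a • m = 0) → m = 0
  ext : ∀ φ : J →ₗ[R] M, ∃ m : M, ∀ a : J, φ a = a.1 • m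

theorem Two.of_equiv {J : Ideal R} {M : Type v} [AddCommGroup M] [Module R M] {M' : Type w}
    [AddCommGroup M'] [Module R M'] (h : Two J M) (e : M ≃ₗ[R] M') : Two J M' where
  zero := fun m hm => by
    have := h.zero (e.symm m) fun a ha => by rw [← map_smul, hm a ha, map_zero]
    simpa using congrArg e this
  ext := fun φ => by
    obtain ⟨m, hm⟩ := h.ext (e.symm.toLinearMap ∘ₗ φ)
    exact ⟨e m, fun a => by rw [← map_smul, ← hm]; simp⟩

/-- Values in a module with property `Two` form a module with property `Two`. -/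
theorem Two.hom {J : Ideal R} {M : Type v} [AddCommGroup M] [Module R M] (h : Two J M)
    (X : Type w) [AddCommGroup X] [Module R X] : Two J (X →ₗ[R] M) where
  zero := fun f hf => LinearMap.ext fun x => h.zero _ fun a ha =>
    LinearMap.congr_fun (hf a ha) x
  ext := fun φ => by
    have hx : ∀ x, ∃ m : M, ∀ a : J, φ a x = a.1 • m := fun x => h.ext
      { toFun := fun a => φ a x
        map_add' := fun a b => by rw [map_add, LinearMap.add_apply]
        map_smul' := fun c a => by rw [map_smul, LinearMap.smul_apply]; rfl }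
    choose g hg using hx
    refine ⟨{ toFun := g, map_add' := fun x y => ?_, map_smul' := fun c x => ?_ },
      fun a => LinearMap.ext fun x => hg x a⟩
    · refine sub_eq_zero.mp (h.zero _ fun a ha => ?_)
      rw [smul_sub, smul_add, ← hg (x + y) ⟨a, ha⟩, ← hg x ⟨a, ha⟩, ← hg y ⟨a, ha⟩, map_add, sub_self]
    · refine sub_eq_zero.mp (h.zero _ fun a ha => ?_)
      rw [smul_sub, RingHom.id_apply, smul_comm a c, ← hg (c • x) ⟨a, ha⟩, ← hg x ⟨a, ha⟩, map_smul,
        sub_self]

section Depth

variable [IsNoetherianRing R] (J : Ideal R) {M : Type u} [AddCommGroup M] [Module R M] [Module.Finite R M]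

theorem eq_zero_of_one_le (h : 1 ≤ idealDepth J M) (m : M) (hm : ∀ a ∈ J, a • m = 0) : m = 0 := by
  rcases (Basic.one_le_idealDepth_iff).mp h with h' | ⟨x, hx, hreg⟩
  · obtain ⟨r, hr1, hr2⟩ := Submodule.exists_sub_one_mem_and_smul_eq_zero_of_fg_of_le_smul J
      (⊤ : Submodule R M) Module.Finite.fg_top h'.ge
    have := hm _ hr1
    rw [sub_eq_add_neg, add_smul, neg_smul, hr2 m trivial, one_smul, zero_add] at this
    exact neg_eq_zero.mp this
  · exact hreg.right_eq_zero_of_smul (hm x hx)

theorem two_of_two_le (h : 2 ≤ idealDepth J M) : Two J M := by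
  refine ⟨eq_zero_of_one_le J (le_trans (by simp) h), fun φ => ?_⟩
  by_cases hJ : J • (⊤ : Submodule R M) = ⊤
  · obtain ⟨r, hr1, hr2⟩ := Submodule.exists_sub_one_mem_and_smul_eq_zero_of_fg_of_le_smul J
      (⊤ : Submodule R M) Module.Finite.fg_top hJ.ge
    -- `1 - r ∈ J` acts as the identity on `M`
    let c : R := -(r - 1)
    have hc : c ∈ J := neg_mem hr1
    have hcm : ∀ m : M, c • m = m := fun m => by
      simp only [c, neg_sub, sub_eq_add_neg, add_smul, neg_smul, hr2 m trivial, one_smul]; simp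
    refine ⟨φ ⟨c, hc⟩, fun a => ?_⟩
    rw [← map_smul, ← hcm (φ a), ← map_smul]
    congr 1
    exact Subtype.ext (mul_comm _ _)
  obtain ⟨x, hx, hreg, h1⟩ := Basic.exists_isSMulRegular_of_succ_le (n := 1) hJ (by simpa using h)
  have hz := eq_zero_of_one_le J (by simpa using h1) (Submodule.Quotient.mk (φ ⟨x, hx⟩)) fun a ha => by
    rw [← Submodule.Quotient.mk_smul, Submodule.Quotient.mk_eq_zero, ← map_smul,
      show a • (⟨x, hx⟩ : J) = x • ⟨a, ha⟩ from Subtype.ext (mul_comm _ _), map_smul]
    exact Submodule.smul_mem_pointwise_smul _ _ _ Submodule.mem_top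
  rw [Submodule.Quotient.mk_eq_zero] at hz
  obtain ⟨n, -, hn⟩ := (Submodule.mem_smul_pointwise_iff_exists _ _ _).mp hz
  refine ⟨n, fun a => hreg ?_⟩
  show x • φ a = x • (a.1 • n)
  rw [smul_comm x a.1 n, hn, ← map_smul, ← map_smul]
  congr 1
  exact Subtype.ext (mul_comm _ _)

theorem two_le_of_two (h : Two J M) : 2 ≤ idealDepth J M := by
  by_cases hJ : J • (⊤ : Submodule R M) = ⊤
  · rw [Basic.idealDepth_of_smul_top_eq hJ]; exact le_top
  obtain ⟨x, hx, hreg⟩ : ∃ x ∈ J, IsSMulRegular M x := by
    rw [Assoc.exists_isSMulRegular_iff]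
    intro p hp hle
    have hpp := IsAssociatedPrime.isPrime hp
    obtain ⟨-, m, hm⟩ := isAssociatedPrime_iff.mp hp
    have : m = 0 := h.zero m fun a ha => by
      have := hle ha
      rw [hm] at this
      simpa [Submodule.mem_colon_singleton] using this
    exact hpp.ne_top (by rw [hm, this]; simp)
  have h1 : 1 ≤ idealDepth J (QuotSMulTop x M) := by
    rw [Basic.one_le_idealDepth_iff]
    refine Or.inr ?_
    rw [Assoc.exists_isSMulRegular_iff]
    intro p hp hle
    have hpp := IsAssociatedPrime.isPrime hp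
    obtain ⟨-, q, hq⟩ := isAssociatedPrime_iff.mp hp
    obtain ⟨m, rfl⟩ := Submodule.mkQ_surjective _ q
    have hmem : ∀ a ∈ J, ∃ y : M, x • y = a • m := fun a ha => by
      have := hle ha
      rw [hq, Submodule.mem_colon_singleton, Submodule.mem_bot, ← map_smul, Submodule.mkQ_apply,
        Submodule.Quotient.mk_eq_zero] at this
      obtain ⟨y, -, hy⟩ := (Submodule.mem_smul_pointwise_iff_exists _ _ _).mp this
      exact ⟨y, hy⟩
    choose g hg using hmem
    let φ : J →ₗ[R] M :=
      { toFun := fun a => g a.1 a.2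
        map_add' := fun a b => hreg (by
          show x • g _ _ = x • (g _ _ + g _ _)
          rw [smul_add, hg, hg, hg, ← add_smul]; rfl)
        map_smul' := fun c a => hreg (by
          show x • g _ _ = x • (c • g _ _)
          rw [smul_comm x c, hg, hg, smul_smul]; rfl) }
    obtain ⟨n, hn⟩ := h.ext φ
    have hm : m = x • n := by
      rw [← show φ ⟨x, hx⟩ = x • n from hn ⟨x, hx⟩]
      exact hreg (show x • m = x • g x hx by rw [hg])
    apply hpp.ne_top
    have h0 : (Submodule.mkQ (x • (⊤ : Submodule R M))) m = 0 := by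
      rw [Submodule.mkQ_apply, Submodule.Quotient.mk_eq_zero, hm]
      exact Submodule.smul_mem_pointwise_smul _ _ _ Submodule.mem_top
    rw [hq, h0]; simp
  simpa using (SES.succ_le_idealDepth_iff J hx hreg 1).mpr (by simpa using h1)

theorem two_pow (h : Two J M) (n : ℕ) (hn : n ≠ 0) : Two (J ^ n) M := by
  refine two_of_two_le _ ?_
  rw [Ext.idealDepth_radical_eq (M := M) (I := J) (J := J ^ n) (Ideal.radical_pow J hn)]
  exact two_le_of_two J h

end Depth

section InvUpTo

variable {X Y : Type v} [AddCommGroup X] [Module R X] [AddCommGroup Y] [Module R Y]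

/-- `e` is invertible up to the elements of `J`. -/
def InvUpTo (J : Ideal R) (e : X →ₗ[R] Y) : Prop :=
  ∀ c ∈ J, ∃ g : Y →ₗ[R] X, (∀ y, e (g y) = c • y) ∧ ∀ x, g (e x) = c • x

/-- The ideal of elements up to which `e` is invertible. -/
theorem invUpTo_span {s : Set R} (e : X →ₗ[R] Y)
    (h : ∀ c ∈ s, ∃ g : Y →ₗ[R] X, (∀ y, e (g y) = c • y) ∧ ∀ x, g (e x) = c • x) :
    InvUpTo (Ideal.span s) e := by
  intro c hc
  induction hc using Submodule.span_induction with
  | mem c hc => exact h c hc
  | zero => exact ⟨0, fun y => by simp, fun x => by simp⟩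
  | add a b _ _ ha hb =>
    obtain ⟨g, hg1, hg2⟩ := ha
    obtain ⟨g', hg1', hg2'⟩ := hb
    exact ⟨g + g', fun y => by simp [hg1, hg1', add_smul], fun x => by simp [hg2, hg2', add_smul]⟩
  | smul a b _ hb =>
    obtain ⟨g, hg1, hg2⟩ := hb
    exact ⟨a • g, fun y => by simp [hg1, smul_smul], fun x => by simp [hg2, smul_smul]⟩

/-- A map invertible up to `J` is bijective on maps into a module with property `Two`. -/
theorem InvUpTo.comp_bijective {J : Ideal R} {e : X →ₗ[R] Y} (he : InvUpTo J e) {M : Type w}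
    [AddCommGroup M] [Module R M] (h : Two J M) :
    Function.Bijective (fun χ : Y →ₗ[R] M => χ ∘ₗ e) := by
  constructor
  · intro χ χ' hχ
    refine LinearMap.ext fun y => sub_eq_zero.mp (h.zero _ fun c hc => ?_)
    obtain ⟨g, hg, -⟩ := he c hc
    rw [smul_sub, ← map_smul, ← map_smul, ← hg,
      show χ (e (g y)) = χ' (e (g y)) from LinearMap.congr_fun hχ (g y), sub_self]
  · intro ψ
    choose g hg1 hg2 using he
    have key : ∀ (a : R) (ha : a ∈ J) (b : R) (hb : b ∈ J) (y : Y),
        b • ψ (g a ha y) = a • ψ (g b hb y) := fun a ha b hb y => by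
      rw [← map_smul, ← hg2 b hb, hg1 a ha, map_smul, map_smul]
    have hy : ∀ y, ∃ m, ∀ a : J, ψ (g a.1 a.2 y) = a.1 • m := fun y => h.ext
      { toFun := fun a => ψ (g a.1 a.2 y)
        map_add' := fun a b => sub_eq_zero.mp (h.zero _ fun c hc => by
          rw [smul_sub, smul_add, key _ _ c hc, key _ _ c hc, key _ _ c hc, Submodule.coe_add, add_smul,
            sub_self])
        map_smul' := fun d a => sub_eq_zero.mp (h.zero _ fun c hc => by
          rw [smul_sub, RingHom.id_apply, smul_comm c d, key _ _ c hc, key _ _ c hc, SetLike.val_smul,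
            smul_eq_mul, mul_smul, sub_self]) }
    choose χ hχ using hy
    refine ⟨{ toFun := χ, map_add' := fun y y' => ?_, map_smul' := fun d y => ?_ },
      LinearMap.ext fun x => sub_eq_zero.mp (h.zero _ fun a ha => ?_)⟩
    · refine sub_eq_zero.mp (h.zero _ fun a ha => ?_)
      rw [smul_sub, smul_add, ← hχ (y + y') ⟨a, ha⟩, ← hχ y ⟨a, ha⟩, ← hχ y' ⟨a, ha⟩, map_add, map_add,
        sub_self]
    · refine sub_eq_zero.mp (h.zero _ fun a ha => ?_)
      rw [smul_sub, RingHom.id_apply, smul_comm a d, ← hχ (d • y) ⟨a, ha⟩, ← hχ y ⟨a, ha⟩, map_smul,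
        map_smul, sub_self]
    · show a • (χ (e x) - ψ x) = 0
      rw [smul_sub, ← hχ (e x) ⟨a, ha⟩, hg2 a ha, map_smul, sub_self]

/-- A map invertible up to `J` between good modules is bijective. -/
theorem InvUpTo.bijective {J : Ideal R} {e : X →ₗ[R] Y} (he : InvUpTo J e) (hX : Two J X)
    (hY : ∀ y : Y, (∀ a ∈ J, a • y = 0) → y = 0) : Function.Bijective e := by
  constructor
  · intro x x' hx
    refine sub_eq_zero.mp (hX.zero _ fun a ha => ?_)
    obtain ⟨g, -, hg⟩ := he a ha
    rw [← hg, map_sub e, hx, sub_self, map_zero]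
  · intro y
    choose g hg1 hg2 using he
    have key : ∀ (a : R) (ha : a ∈ J) (b : R) (hb : b ∈ J), b • g a ha y = a • g b hb y :=
      fun a ha b hb => by rw [← hg2 b hb, hg1 a ha, map_smul]
    obtain ⟨m, hm⟩ := hX.ext
      { toFun := fun a => g a.1 a.2 y
        map_add' := fun a b => sub_eq_zero.mp (hX.zero _ fun c hc => by
          rw [smul_sub, smul_add, key _ _ c hc, key _ _ c hc, key _ _ c hc, Submodule.coe_add, add_smul,
            sub_self])
        map_smul' := fun d a => sub_eq_zero.mp (hX.zero _ fun c hc => by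
          rw [smul_sub, RingHom.id_apply, smul_comm c d, key _ _ c hc, key _ _ c hc, SetLike.val_smul,
            smul_eq_mul, mul_smul, sub_self]) }
    refine ⟨m, sub_eq_zero.mp (hY _ fun a ha => ?_)⟩
    have h1 : g a ha y = a • m := hm ⟨a, ha⟩
    rw [smul_sub, ← map_smul, ← h1, hg1, sub_self]

end InvUpTo

end Groth.Agent.Lib.QDepth
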