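import Groth.Agent.Lib.QDepth.Reflexive
import Mathlib.Algebra.Module.Projective
import Mathlib.RingTheory.LocalRing.Module
import Mathlib.LinearAlgebra.FreeModule.Finite.Basic
import Mathlib.RingTheory.Localization.Module
import Mathlib.LinearAlgebra.Dual.Lemmas

/-!
Four-term presentations of reflexive modules.
-/

universe u v

namespace Groth.Agent.Lib.QDepth

variable {B : Type u} [CommRing B] [IsNoetherianRing B] (q : Ideal B) [q.IsPrime]

omit [IsNoetherianRing B] in
/-- A retract up to a unit of a localized free module is free. -/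
theorem free_localized_of_split {C : Type u} [AddCommGroup C] [Module B C] [Module.Finite B C] {m : ℕ}
    (π : (Fin m → B) →ₗ[B] C) (φ : C →ₗ[B] (Fin m → B)) (s : q.primeCompl)
    (h : π ∘ₗ φ = s.1 • LinearMap.id) :
    Module.Free (Localization.AtPrime q) (LocalizedModule q.primeCompl C) := by
  have : Module.Finite (Localization.AtPrime q) (LocalizedModule q.primeCompl C) :=
    Module.Finite.of_isLocalizedModule q.primeCompl (Rₚ := Localization.AtPrime q)
      (LocalizedModule.mkLinearMap q.primeCompl C)
  let P := LocalizedModule.map q.primeCompl π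
  let Φ := LocalizedModule.map q.primeCompl φ
  let u : (Localization.AtPrime q)ˣ := (IsLocalization.map_units (Localization.AtPrime q) s).unit
  have hP : P ∘ₗ ((u⁻¹ : (Localization.AtPrime q)ˣ).1 • Φ) = LinearMap.id := by
    apply LinearMap.ext
    intro x
    induction x using LocalizedModule.induction_on with
    | _ c t =>
      simp only [P, Φ, LinearMap.comp_apply, LinearMap.smul_apply, map_smul, LocalizedModule.map_mk,
        LinearMap.id_apply]
      rw [show π (φ c) = s.1 • c from LinearMap.congr_fun h c, ← LocalizedModule.smul'_mk,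
        ← algebraMap_smul (Localization.AtPrime q) s.1, smul_smul,
        show (u⁻¹ : (Localization.AtPrime q)ˣ).1 * algebraMap B _ s.1 = 1 from u.inv_mul, one_smul]
  have : Module.Free (Localization.AtPrime q) (LocalizedModule q.primeCompl (Fin m → B)) :=
    .of_equiv (IsLocalizedModule.isBaseChange q.primeCompl (Localization.AtPrime q)
      (LocalizedModule.mkLinearMap q.primeCompl (Fin m → B))).equiv
  have : Module.Projective (Localization.AtPrime q) (LocalizedModule q.primeCompl C) :=
    Module.Projective.of_split _ _ hP
  exact Module.free_of_flat_of_isLocalRing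

/-- Dual of a module free at `q` is free at `q`. -/
theorem free_dual_localized (F : Type u) [AddCommGroup F] [Module B F] [Module.Finite B F]
    [Module.Free (Localization.AtPrime q) (LocalizedModule q.primeCompl F)] :
    Module.Free (Localization.AtPrime q) (LocalizedModule q.primeCompl (Module.Dual B F)) := by
  have := Module.finitePresentation_of_finite B F
  let f : Module.Dual B F →ₗ[B] Module.Dual (Localization.AtPrime q) (LocalizedModule q.primeCompl F) :=
    IsLocalizedModule.mapExtendScalars q.primeCompl (LocalizedModule.mkLinearMap q.primeCompl F)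
      (Algebra.linearMap B (Localization.AtPrime q)) (Localization.AtPrime q)
  have : IsLocalizedModule q.primeCompl f :=
    Module.FinitePresentation.isLocalizedModule_mapExtendScalars _ _ _ _
  exact Module.Free.of_equiv ((IsLocalizedModule.linearEquiv q.primeCompl f
    (LocalizedModule.mkLinearMap q.primeCompl (Module.Dual B F))).extendScalarsOfIsLocalization
      q.primeCompl (Localization.AtPrime q))

/-- If `D` is free at `q`, a surjection onto `D` splits up to an element outside `q`. -/
theorem exists_split {D : Type u} [AddCommGroup D] [Module B D] [Module.Finite B D]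
    [Module.Free (Localization.AtPrime q) (LocalizedModule q.primeCompl D)] {n : ℕ}
    (π : (Fin n → B) →ₗ[B] D) (hπ : Function.Surjective π) :
    ∃ (s : q.primeCompl) (ψ : D →ₗ[B] (Fin n → B)), π ∘ₗ ψ = s.1 • LinearMap.id := by
  have := Module.finitePresentation_of_finite B D
  obtain ⟨σ, hσ⟩ := Module.projective_lifting_property (LocalizedModule.map q.primeCompl π)
    LinearMap.id (LocalizedModule.map_surjective q.primeCompl π hπ)
  obtain ⟨⟨ψ, t⟩, ht⟩ := IsLocalizedModule.surj q.primeCompl
    (LocalizedModule.map q.primeCompl (M := D) (N := Fin n → B)) σ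
  have key : (LocalizedModule.mkLinearMap q.primeCompl D) ∘ₗ (π ∘ₗ ψ) =
      (LocalizedModule.mkLinearMap q.primeCompl D) ∘ₗ (t.1 • LinearMap.id) := by
    apply LinearMap.ext
    intro d
    have h1 := congrArg (fun g => LocalizedModule.map q.primeCompl π (g (LocalizedModule.mk d 1))) ht
    simp only [LinearMap.smul_apply, LinearMap.map_smul_of_tower, LocalizedModule.map_mk] at h1
    rw [show LocalizedModule.map q.primeCompl π (σ (LocalizedModule.mk d 1)) = LocalizedModule.mk d 1
      from LinearMap.congr_fun hσ _, Submonoid.smul_def, LocalizedModule.smul'_mk] at h1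
    simpa [LocalizedModule.smul'_mk] using h1.symm
  obtain ⟨c, hc⟩ := Module.Finite.exists_smul_of_comp_eq_of_isLocalizedModule q.primeCompl
    (LocalizedModule.mkLinearMap q.primeCompl D) _ _ key
  refine ⟨c * t, c.1 • ψ, ?_⟩
  rw [Submonoid.smul_def, Submonoid.smul_def] at hc
  rw [LinearMap.comp_smul, hc, smul_smul, Submonoid.coe_mul]

/-- Four-term free presentation of a finite reflexive module, split where it is free. -/
theorem exists_presentation (F : Type u) [AddCommGroup F] [Module B F] [Module.Finite B F]
    [Module.IsReflexive B F] :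
    ∃ (n m : ℕ) (g : F →ₗ[B] (Fin n → B)) (h : (Fin n → B) →ₗ[B] (Fin m → B)),
      Function.Injective g ∧ Function.Exact g h ∧
      ∀ (q : Ideal B) [q.IsPrime],
        Module.Free (Localization.AtPrime q) (LocalizedModule q.primeCompl F) →
        Module.Free (Localization.AtPrime q)
          (LocalizedModule q.primeCompl ((Fin m → B) ⧸ LinearMap.range h)) := by
  obtain ⟨n, π, hπ⟩ := Module.Finite.exists_fin' B (Module.Dual B F)
  obtain ⟨m, u0, hu0⟩ := Module.Finite.exists_fin' B (LinearMap.ker π)
  let e : ∀ k : ℕ, Module.Dual B (Fin k → B) ≃ₗ[B] (Fin k → B) := fun k =>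
    LinearEquiv.piRing B B (Fin k) B
  let u := (LinearMap.ker π).subtype ∘ₗ u0
  have hex : Function.Exact u π := by
    rw [LinearMap.exact_iff, LinearMap.range_comp, LinearMap.range_eq_top.mpr hu0, Submodule.map_top,
      Submodule.range_subtype]
  let h : (Fin n → B) →ₗ[B] (Fin m → B) := (e m).toLinearMap ∘ₗ u.dualMap ∘ₗ (e n).symm.toLinearMap
  refine ⟨n, m, (e n).toLinearMap ∘ₗ π.dualMap ∘ₗ Module.Dual.eval B F, h, ?_, ?_, ?_⟩
  · exact (e n).injective.comp ((LinearMap.dualMap_injective_of_surjective hπ).comp
      (Module.bijective_dual_eval B F).injective)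
  · intro y
    have hd := LinearMap.exact_lcomp_of_exact_of_surjective (N := B) hex hπ ((e n).symm y)
    simp only [h, LinearMap.comp_apply, LinearEquiv.coe_coe, LinearEquiv.map_eq_zero_iff,
      Set.mem_range]
    refine hd.trans ⟨?_, ?_⟩
    · rintro ⟨φ, hφ⟩
      obtain ⟨x, rfl⟩ := (Module.bijective_dual_eval B F).surjective φ
      exact ⟨x, ((e n).eq_symm_apply).mp hφ⟩
    · rintro ⟨x, hx⟩
      exact ⟨Module.Dual.eval B F x, ((e n).eq_symm_apply).mpr hx⟩
  · intro q _ hF
    have := free_dual_localized q F
    obtain ⟨s, ψ, hψ⟩ := exists_split q π hπ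
    let ρ : (Fin n → B) →ₗ[B] LinearMap.ker π :=
      LinearMap.codRestrict _ (s.1 • LinearMap.id - ψ ∘ₗ π) (fun x => by
        rw [LinearMap.mem_ker, LinearMap.sub_apply, map_sub, LinearMap.comp_apply,
          show π (ψ (π x)) = s.1 • π x from LinearMap.congr_fun hψ (π x)]
        simp)
    obtain ⟨N, hN⟩ := Module.projective_lifting_property u0 ρ hu0
    have hgen : u ∘ₗ N ∘ₗ u = s.1 • u := by
      apply LinearMap.ext
      intro y
      have h1 : (u0 (N (u y))).1 = (ρ (u y)).1 := by rw [← LinearMap.comp_apply u0 N, hN]
      show (u0 (N (u y))).1 = s.1 • u y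
      rw [h1]
      simp [ρ, hex.apply_apply_eq_zero]
    let N' : (Fin m → B) →ₗ[B] (Fin n → B) := (e n).toLinearMap ∘ₗ N.dualMap ∘ₗ (e m).symm.toLinearMap
    have hgen' : ∀ y, h (N' (h y)) = s.1 • h y := by
      intro y
      simp only [h, N', LinearMap.comp_apply, LinearEquiv.coe_coe, LinearEquiv.symm_apply_apply]
      rw [← map_smul (e m)]
      congr 1
      apply LinearMap.ext
      intro z
      simp only [LinearMap.dualMap_apply, LinearMap.smul_apply]
      rw [show u (N (u z)) = s.1 • u z from LinearMap.congr_fun hgen z, map_smul]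
    let φ : ((Fin m → B) ⧸ LinearMap.range h) →ₗ[B] (Fin m → B) :=
      Submodule.liftQ _ (s.1 • LinearMap.id - h ∘ₗ N') (by
        rintro _ ⟨y, rfl⟩
        simp [hgen'])
    refine free_localized_of_split q (LinearMap.range h).mkQ φ s (Submodule.linearMap_qext _ ?_)
    apply LinearMap.ext
    intro y
    simp only [φ, LinearMap.comp_apply, Submodule.mkQ_apply, Submodule.liftQ_apply,
      LinearMap.sub_apply, LinearMap.smul_apply, LinearMap.id_apply, Submodule.Quotient.mk_sub,
      Submodule.Quotient.mk_smul]
    rw [(Submodule.Quotient.mk_eq_zero (LinearMap.range h)).mpr (LinearMap.mem_range_self h _), sub_zero]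

end Groth.Agent.Lib.QDepth
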