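import Groth.Agent.Lib.QDepth.TwoTensor
import Groth.Agent.Lib.QDepth.Presentation

/-!
Double duals of modules free off a closed set of depth two, and their base change.
-/

universe u

open LocCoh TensorProduct
open Groth.Agent.Lib.Depth

namespace Groth.Agent.Lib.QDepth

variable {B : Type u} [CommRing B] {F : Type u} [AddCommGroup F] [Module B F]

/-- If `c • id` factors through a reflexive module then evaluation is invertible up to `c`. -/
theorem eval_inv_of_factor {P : Type u} [AddCommGroup P] [Module B P] [Module.IsReflexive B P]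
    (π : P →ₗ[B] F) (s : F →ₗ[B] P) (c : B) (h : π ∘ₗ s = c • LinearMap.id) :
    ∃ g : Module.Dual B (Module.Dual B F) →ₗ[B] F,
      (∀ Φ, Module.Dual.eval B F (g Φ) = c • Φ) ∧ ∀ x, g (Module.Dual.eval B F x) = c • x := by
  let e := Module.evalEquiv B P
  have hsdd : ∀ x, s.dualMap.dualMap (Module.Dual.eval B F x) = Module.Dual.eval B P (s x) := fun x => rfl
  refine ⟨π ∘ₗ e.symm.toLinearMap ∘ₗ s.dualMap.dualMap, fun Φ => LinearMap.ext fun φ => ?_, fun x => ?_⟩
  · show φ (π (e.symm (s.dualMap.dualMap Φ))) = c • Φ φ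
    have h1 := LinearMap.congr_fun (e.apply_symm_apply (s.dualMap.dualMap Φ)) (φ ∘ₗ π)
    rw [Module.evalEquiv_apply] at h1
    refine h1.trans ?_
    show Φ ((φ ∘ₗ π) ∘ₗ s) = c • Φ φ
    rw [LinearMap.comp_assoc, h, LinearMap.comp_smul, LinearMap.comp_id, map_smul]
  · show π (e.symm (s.dualMap.dualMap (Module.Dual.eval B F x))) = c • x
    rw [hsdd, ← Module.evalEquiv_apply, LinearEquiv.symm_apply_apply]
    exact LinearMap.congr_fun h x

section Noetherian

variable [IsNoetherianRing B] [Module.Finite B F]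

/-- A module free off `V(J)` is a retract of a free module up to a power of `J`. -/
theorem exists_factor (J : Ideal B)
    (hFU : ∀ q : PrimeSpectrum B, ¬ J ≤ q.asIdeal →
      Module.Free (Localization.AtPrime q.asIdeal) (LocalizedModule q.asIdeal.primeCompl F)) :
    ∃ (N : ℕ) (_ : N ≠ 0) (n : ℕ) (π : (Fin n → B) →ₗ[B] F),
      ∀ c ∈ J ^ N, ∃ s : F →ₗ[B] (Fin n → B), π ∘ₗ s = c • LinearMap.id := by
  obtain ⟨n, π, hπ⟩ := Module.Finite.exists_fin' B F
  let 𝔞 : Ideal B :=
    { carrier := {c | ∃ s : F →ₗ[B] (Fin n → B), π ∘ₗ s = c • LinearMap.id}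
      add_mem' := fun {a b} ⟨s, hs⟩ ⟨t, ht⟩ => ⟨s + t, by rw [LinearMap.comp_add, hs, ht, add_smul]⟩
      zero_mem' := ⟨0, by simp⟩
      smul_mem' := fun c a ⟨s, hs⟩ => ⟨c • s, by rw [LinearMap.comp_smul, hs, smul_smul]; rfl⟩ }
  have hrad : J ≤ 𝔞.radical := by
    intro x hx
    rw [Ideal.radical_eq_sInf]
    refine Ideal.mem_sInf.mpr fun {p} hp => ?_
    by_contra hxp
    have hp2 := hp.2
    have := hFU ⟨p, hp2⟩ (fun h => hxp (h hx))
    obtain ⟨s, ψ, hψ⟩ := exists_split p π hπ
    exact s.2 (hp.1 ⟨ψ, hψ⟩)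
  obtain ⟨N, hN⟩ := Ideal.exists_pow_le_of_le_radical_of_fg hrad (IsNoetherian.noetherian J)
  exact ⟨N + 1, Nat.succ_ne_zero N, n, π,
    fun c hc => hN (Ideal.pow_le_pow_right (Nat.le_succ N) hc)⟩

/-- Evaluation is invertible up to a power of `J`, also after any base change. -/
theorem exists_invUpTo_eval (J : Ideal B)
    (hFU : ∀ q : PrimeSpectrum B, ¬ J ≤ q.asIdeal →
      Module.Free (Localization.AtPrime q.asIdeal) (LocalizedModule q.asIdeal.primeCompl F)) :
    ∃ N : ℕ, N ≠ 0 ∧ InvUpTo (J ^ N) (Module.Dual.eval B F) ∧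
      ∀ (B' : Type u) [CommRing B'] [Algebra B B'],
        InvUpTo ((J.map (algebraMap B B')) ^ N) (Module.Dual.eval B' (B' ⊗[B] F)) ∧
        InvUpTo ((J.map (algebraMap B B')) ^ N) ((Module.Dual.eval B F).baseChange B') := by
  obtain ⟨N, hN, n, π, hπ⟩ := exists_factor J hFU
  refine ⟨N, hN, fun c hc => ?_, fun B' _ _ => ?_⟩
  · obtain ⟨s, hs⟩ := hπ c hc
    exact eval_inv_of_factor π s c hs
  rw [← Ideal.map_pow, Ideal.map]
  refine ⟨invUpTo_span _ ?_, invUpTo_span _ ?_⟩
  · rintro _ ⟨c, hc, rfl⟩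
    obtain ⟨s, hs⟩ := hπ c hc
    refine eval_inv_of_factor (π.baseChange B') (s.baseChange B') _ ?_
    rw [← LinearMap.baseChange_comp, hs, LinearMap.baseChange_smul, LinearMap.baseChange_id,
      algebraMap_smul]
  · rintro _ ⟨c, hc, rfl⟩
    obtain ⟨s, hs⟩ := hπ c hc
    obtain ⟨g, hg1, hg2⟩ := eval_inv_of_factor π s c hs
    refine ⟨g.baseChange B', fun y => ?_, fun x => ?_⟩
    · rw [← LinearMap.comp_apply, ← LinearMap.baseChange_comp,
        show (Module.Dual.eval B F) ∘ₗ g = c • LinearMap.id from LinearMap.ext hg1,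
        LinearMap.baseChange_smul, LinearMap.baseChange_id, algebraMap_smul]
      rfl
    · rw [← LinearMap.comp_apply, ← LinearMap.baseChange_comp,
        show g ∘ₗ (Module.Dual.eval B F) = c • LinearMap.id from LinearMap.ext hg2,
        LinearMap.baseChange_smul, LinearMap.baseChange_id, algebraMap_smul]
      rfl

/-- A module with property `Two`, free off `V(J)`, is reflexive. -/
theorem isReflexive_of_two {J : Ideal B} {N : ℕ} (hN : N ≠ 0) (h : InvUpTo (J ^ N) (Module.Dual.eval B F))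
    (hB : Two J B) (hF : Two J F) : Module.IsReflexive B F :=
  ⟨h.bijective (two_pow J hF N hN) ((two_pow J hB N hN).hom (Module.Dual B F)).zero⟩

end Noetherian

section FlatDepth

variable {A : Type u} [CommRing A] [IsNoetherianRing A] [IsNoetherianRing B] [Algebra A B]

theorem two_of_flat_fibres (J : Ideal B) (M : Type u) [AddCommGroup M] [Module B M] [Module A M]
    [IsScalarTower A B M] [Module.Finite B M] [Module.Flat A M]
    (h : ∀ q : PrimeSpectrum B, J ≤ q.asIdeal →
      2 ≤ LocCoh.idealDepth (q.asIdeal.map (algebraMap B (EGA4.FibLocRing A B q.asIdeal)))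
        (EGA4.FibLocMod A B q.asIdeal M)) : Two J M :=
  (two_tensor J h A).of_equiv (TensorProduct.AlgebraTensorModule.rid A B M)

theorem two_ring_baseChange [Module.Flat A B] (J : Ideal B)
    (h : ∀ q : PrimeSpectrum B, J ≤ q.asIdeal →
      2 ≤ LocCoh.idealDepth (q.asIdeal.map (algebraMap B (EGA4.FibLocRing A B q.asIdeal)))
        (EGA4.FibLocRing A B q.asIdeal))
    (A' B' : Type u) [CommRing A'] [CommRing B'] [Algebra A A'] [Algebra B B'] [Algebra A' B']
    [Algebra A B'] [IsScalarTower A B B'] [IsScalarTower A A' B'] [Algebra.IsPushout A B A' B'] :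
    Two J B ∧ Two (J.map (algebraMap B B')) B' := by
  have h' : ∀ q : PrimeSpectrum B, J ≤ q.asIdeal →
      2 ≤ LocCoh.idealDepth (q.asIdeal.map (algebraMap B (EGA4.FibLocRing A B q.asIdeal)))
        (EGA4.FibLocMod A B q.asIdeal B) := fun q hq => by
    rw [Basic.idealDepth_congr _ (fibLocRingEquiv A B q.asIdeal)]
    exact h q hq
  exact ⟨two_of_flat_fibres J B h',
    (two_baseChange J h' A' B').of_equiv (TensorProduct.AlgebraTensorModule.rid B B' B')⟩

end FlatDepth

end Groth.Agent.Lib.QDepth
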