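import Groth.Agent.Lib.QDepth.Sk

/-!
`S_k` for the dual of a finite module, `k ≤ 2`.
-/

universe u

open LocCoh IsLocalRing
open Groth.Agent.Lib.Depth

namespace Groth.Agent.Lib.QDepth

variable {R : Type u} [CommRing R] [IsNoetherianRing R]

omit [IsNoetherianRing R] in
theorem exists_exact_dual [IsNoetherianRing R] (X : Type u) [AddCommGroup X] [Module R X]
    [Module.Finite R X] :
    ∃ (n m : ℕ) (g : Module.Dual R X →ₗ[R] (Fin n → R)) (h : (Fin n → R) →ₗ[R] (Fin m → R)),
      Function.Injective g ∧ Function.Exact g h := by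
  obtain ⟨n, π, hπ⟩ := Module.Finite.exists_fin' R X
  obtain ⟨m, u, hu⟩ := Module.Finite.exists_fin' R (LinearMap.ker π)
  let e : ∀ k : ℕ, Module.Dual R (Fin k → R) ≃ₗ[R] (Fin k → R) := fun k =>
    LinearEquiv.piRing R R (Fin k) R
  have hex : Function.Exact ((LinearMap.ker π).subtype ∘ₗ u) π := by
    rw [LinearMap.exact_iff, LinearMap.range_comp, LinearMap.range_eq_top.mpr hu, Submodule.map_top,
      Submodule.range_subtype]
  refine ⟨n, m, (e n).toLinearMap ∘ₗ π.dualMap,
    (e m).toLinearMap ∘ₗ ((LinearMap.ker π).subtype ∘ₗ u).dualMap ∘ₗ (e n).symm.toLinearMap, ?_, ?_⟩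
  · exact (e n).injective.comp (LinearMap.dualMap_injective_of_surjective hπ)
  · intro y
    have hd := LinearMap.exact_lcomp_of_exact_of_surjective (N := R) hex hπ ((e n).symm y)
    simp only [LinearMap.comp_apply, LinearEquiv.coe_coe, LinearEquiv.map_eq_zero_iff,
      Set.mem_range]
    exact hd.trans ⟨fun ⟨φ, hφ⟩ => ⟨φ, ((e n).eq_symm_apply).mp hφ⟩,
      fun ⟨x, hx⟩ => ⟨x, ((e n).eq_symm_apply).mpr hx⟩⟩

/-- The dual of a finite module inherits `S_k` (`k ≤ 2`) from the ring. -/
theorem hasSk_dual (X : Type u) [AddCommGroup X] [Module R X] [Module.Finite R X] {k : ℕ}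
    (hk : k ≤ 2) (hR : HasSk k R R) : HasSk k R (Module.Dual R X) := by
  obtain ⟨n, m, g, u, hg, hgu⟩ := exists_exact_dual (R := R) X
  have : Module.Finite R (Module.Dual R X) := Module.Finite.of_injective g hg
  refine hasSk_of_forall fun p _ j hj hd => ?_
  have hdim : ((j : ℕ∞) : WithBot ℕ∞) ≤
      Module.supportDim (Localization.AtPrime p) (LocalizedModule p.primeCompl R) := by
    refine hd.trans ((Module.supportDim_le_ringKrullDim _ _).trans (le_of_eq ?_))
    exact (Module.supportDim_self_eq_ringKrullDim (R := Localization.AtPrime p)).symm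
  have hj' := le_depth_of_hasSk hR p hj hdim
  exact le_of_exact_of_le_two _ (LocalizedModule.map p.primeCompl g)
    (LocalizedModule.map p.primeCompl u) (localized_exact p g u hg hgu).1
    (localized_exact p g u hg hgu).2 (hj.trans hk) (le_depth_localized_pi p hj' n)
    (le_depth_localized_pi p ((Nat.cast_le.mpr (Nat.sub_le j 1)).trans hj') m)

end Groth.Agent.Lib.QDepth
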