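import Groth.Agent.Lib.QDepth.FlatOff
import Groth.Agent.Lib.FlatCx.Ker
import Mathlib.LinearAlgebra.TensorProduct.Prod

/-!
Depth of `M ⊗_A N` for `A`-flat `M` and four term sequences on the closed fibre.
-/

universe u

open LocCoh IsLocalRing Pointwise TensorProduct
open Groth.Agent.Lib.Depth

namespace Groth.Agent.Lib.QDepth

/-- Tensoring an exact sequence with flat cokernel and flat middle stays exact. -/
theorem rTensor_exact_of_flat_coker {A : Type u} [CommRing A] {F E0 E1 G : Type u}
    [AddCommGroup F] [Module A F] [AddCommGroup E0] [Module A E0] [AddCommGroup E1] [Module A E1]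
    [AddCommGroup G] [Module A G] [Module.Flat A E1] [Module.Flat A G]
    (f : F →ₗ[A] E0) (u : E0 →ₗ[A] E1) (v : E1 →ₗ[A] G) (hf : Function.Injective f)
    (hfu : Function.Exact f u) (huv : Function.Exact u v) (hv : Function.Surjective v)
    (N : Type u) [AddCommGroup N] [Module A N] :
    Function.Injective (f.rTensor N) ∧ Function.Exact (f.rTensor N) (u.rTensor N) := by
  have e : (E1 ⧸ LinearMap.range u) ≃ₗ[A] G :=
    Submodule.quotEquivOfEq _ _ (LinearMap.exact_iff.mp huv).symm ≪≫ₗ v.quotKerEquivOfSurjective hv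
  have : Module.Flat A (E1 ⧸ LinearMap.range u) := Module.Flat.of_linearEquiv e
  obtain ⟨h1, h2⟩ := FlatCx.Ker.ker_lTensor_of_flat_coker u N
  let i : F ≃ₗ[A] LinearMap.ker u :=
    LinearEquiv.ofInjective f hf ≪≫ₗ LinearEquiv.ofEq _ _ (LinearMap.exact_iff.mp hfu).symm
  have hfi : f = (LinearMap.ker u).subtype ∘ₗ i.toLinearMap := rfl
  have hl : Function.Injective (f.lTensor N) ∧ Function.Exact (f.lTensor N) (u.lTensor N) := by
    rw [hfi, LinearMap.lTensor_comp]
    refine ⟨h1.comp (i.lTensor N).injective, fun y => (h2 y).trans ⟨?_, ?_⟩⟩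
    · rintro ⟨z, rfl⟩
      obtain ⟨z', rfl⟩ := (i.lTensor N).surjective z
      exact ⟨z', rfl⟩
    · rintro ⟨z, rfl⟩
      exact ⟨i.lTensor N z, rfl⟩
  have hc : ∀ {X Y : Type u} [AddCommGroup X] [Module A X] [AddCommGroup Y] [Module A Y] (g : X →ₗ[A] Y)
      (z : N ⊗[A] X), g.rTensor N (TensorProduct.comm A N X z) = TensorProduct.comm A N Y (g.lTensor N z) := by
    intro X Y _ _ _ _ g z
    induction z using TensorProduct.induction_on with
    | zero => simp
    | add a b ha hb => simp only [map_add, ha, hb]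
    | tmul a b => simp
  refine ⟨fun a b hab => ?_, fun y => ?_⟩
  · obtain ⟨a, rfl⟩ := (TensorProduct.comm A N F).surjective a
    obtain ⟨b, rfl⟩ := (TensorProduct.comm A N F).surjective b
    rw [hc, hc] at hab
    rw [hl.1 ((TensorProduct.comm A N E0).injective hab)]
  · obtain ⟨y, rfl⟩ := (TensorProduct.comm A N E0).surjective y
    rw [hc, LinearEquiv.map_eq_zero_iff]
    refine (hl.2 y).trans ⟨?_, ?_⟩
    · rintro ⟨z, rfl⟩
      exact ⟨TensorProduct.comm A N F z, hc f z⟩
    · rintro ⟨z, hz⟩
      obtain ⟨z, rfl⟩ := (TensorProduct.comm A N F).surjective z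
      rw [hc] at hz
      exact ⟨z, (TensorProduct.comm A N E0).injective hz⟩

section Quot

variable {A B : Type u} [CommRing A] [CommRing B] [Algebra A B]
  {M : Type u} [AddCommGroup M] [Module A M] [Module B M] [IsScalarTower A B M]

/-- `M ⊗ A/I ≅ M / I M`, `B`-linearly. -/
theorem exists_quot_equiv (I : Ideal A) :
    Nonempty ((M ⊗[A] (A ⧸ I)) ≃ₗ[B] (M ⧸ (I.map (algebraMap A B) • (⊤ : Submodule B M)))) := by
  let π : M →ₗ[B] M ⊗[A] (A ⧸ I) :=
    { toFun := fun m => m ⊗ₜ[A] 1
      map_add' := fun a b => TensorProduct.add_tmul a b 1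
      map_smul' := fun b m => (TensorProduct.smul_tmul' b m 1).symm }
  have hπ : Function.Surjective π := by
    intro z
    induction z using TensorProduct.induction_on with
    | zero => exact ⟨0, map_zero π⟩
    | add a b ha hb =>
      obtain ⟨a', rfl⟩ := ha
      obtain ⟨b', rfl⟩ := hb
      exact ⟨a' + b', map_add π a' b'⟩
    | tmul m c =>
      obtain ⟨r, rfl⟩ := Ideal.Quotient.mk_surjective c
      refine ⟨r • m, ?_⟩
      show (r • m) ⊗ₜ[A] (1 : A ⧸ I) = m ⊗ₜ Ideal.Quotient.mk I r
      rw [TensorProduct.smul_tmul, Algebra.smul_def, mul_one]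
      rfl
  have hker : LinearMap.ker π = I.map (algebraMap A B) • (⊤ : Submodule B M) := by
    ext m
    rw [LinearMap.mem_ker, ← Submodule.restrictScalars_mem A, Ideal.smul_restrictScalars,
      Submodule.restrictScalars_top]
    have he : (TensorProduct.tensorQuotEquivQuotSMul M I) (π m) = Submodule.Quotient.mk m := by
      show (TensorProduct.tensorQuotEquivQuotSMul M I) (m ⊗ₜ Ideal.Quotient.mk _ 1) = _
      rw [TensorProduct.tensorQuotEquivQuotSMul_tmul_mk, one_smul]
    rw [← Submodule.Quotient.mk_eq_zero, ← he, LinearEquiv.map_eq_zero_iff]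
  exact ⟨(π.quotKerEquivOfSurjective hπ).symm ≪≫ₗ Submodule.quotEquivOfEq _ _ hker⟩

end Quot

section Depth

variable {A B : Type u} [CommRing A] [CommRing B] [IsLocalRing A] [IsNoetherianRing A]
  [IsNoetherianRing B] [Algebra A B]
  {M : Type u} [AddCommGroup M] [Module A M] [Module B M] [IsScalarTower A B M]

omit [IsLocalRing A] [IsNoetherianRing A] [IsNoetherianRing B] in
theorem finite_tensor [Module.Finite B M] (N : Type u) [AddCommGroup N] [Module A N] [Module.Finite A N] :
    Module.Finite B (M ⊗[A] N) :=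
  Module.Finite.equiv (TensorProduct.AlgebraTensorModule.cancelBaseChange A B B M N)

omit [IsNoetherianRing A] [IsNoetherianRing B] in
/-- `M ⊗ k ≅ M / m M`, `B`-linearly. -/
theorem exists_fibre_equiv :
    Nonempty ((M ⊗[A] ResidueField A) ≃ₗ[B]
      (M ⧸ ((maximalIdeal A).map (algebraMap A B) • (⊤ : Submodule B M)))) :=
  exists_quot_equiv (B := B) (M := M) (maximalIdeal A)

/-- depth of `M ⊗ N` from the depth of the closed fibre, `M` flat, `N` of finite length. -/
theorem le_idealDepth_tensor [Module.Finite B M] [Module.Flat A M] (J : Ideal B) {j : ℕ}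
    (h : (j : ℕ∞) ≤ idealDepth J (M ⧸ ((maximalIdeal A).map (algebraMap A B) • (⊤ : Submodule B M))))
    (n : ℕ) : ∀ (N : Type u) [AddCommGroup N] [Module A N] [Module.Finite A N],
      (∀ r ∈ maximalIdeal A ^ n, ∀ x : N, r • x = 0) → (j : ℕ∞) ≤ idealDepth J (M ⊗[A] N) := by
  induction n with
  | zero =>
    intro N _ _ _ hN
    have : Subsingleton N := ⟨fun a b => by
      have ha := hN 1 (by simp) a
      have hb := hN 1 (by simp) b
      rw [one_smul] at ha hb
      rw [ha, hb]⟩
    rw [Basic.idealDepth_subsingleton (M := M ⊗[A] N)]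
    exact le_top
  | succ n ih =>
    intro N _ _ _ hN
    let N' : Submodule A N := maximalIdeal A • ⊤
    have hN' : ∀ r ∈ maximalIdeal A ^ n, ∀ x : N', r • x = 0 := by
      intro r hr x
      apply Subtype.ext
      have hx : x.1 ∈ maximalIdeal A • (⊤ : Submodule A N) := x.2
      show r • x.1 = 0
      refine Submodule.smul_induction_on hx (fun a ha m _ => ?_) (fun a b ha hb => by rw [smul_add, ha, hb, add_zero])
      rw [smul_smul]
      exact hN _ (pow_succ (maximalIdeal A) n ▸ Ideal.mul_mem_mul hr ha) m
    have hV : Module.IsTorsionBySet A (N ⧸ N') (maximalIdeal A : Set A) := by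
      intro x r
      obtain ⟨x, rfl⟩ := Submodule.mkQ_surjective _ x
      rw [← map_smul, Submodule.mkQ_apply, Submodule.Quotient.mk_eq_zero]
      exact Submodule.smul_mem_smul r.2 Submodule.mem_top
    let _ : Module (ResidueField A) (N ⧸ N') := hV.module
    have : IsScalarTower A (ResidueField A) (N ⧸ N') := IsScalarTower.of_algebraMap_smul fun _ _ => rfl
    have : Module.Finite (ResidueField A) (N ⧸ N') := Module.Finite.of_restrictScalars_finite A _ _
    let eV : (N ⧸ N') ≃ₗ[A] (Fin (Module.finrank (ResidueField A) (N ⧸ N')) → ResidueField A) :=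
      ((Module.finBasis (ResidueField A) (N ⧸ N')).equivFun).restrictScalars A
    obtain ⟨e0⟩ := exists_fibre_equiv (A := A) (B := B) (M := M)
    have hpi : ∀ d : ℕ, (j : ℕ∞) ≤ idealDepth J (M ⊗[A] (Fin d → ResidueField A)) := by
      intro d
      induction d with
      | zero => rw [Basic.idealDepth_subsingleton (M := M ⊗[A] (Fin 0 → ResidueField A))]; exact le_top
      | succ d ihd =>
        let e : (Fin (d + 1) → ResidueField A) ≃ₗ[A] ResidueField A × (Fin d → ResidueField A) :=
          (Fin.consLinearEquiv A fun _ => ResidueField A).symm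
        let e' : M ⊗[A] (Fin (d + 1) → ResidueField A) ≃ₗ[B]
            (M ⊗[A] ResidueField A) × (M ⊗[A] (Fin d → ResidueField A)) :=
          TensorProduct.AlgebraTensorModule.congr (LinearEquiv.refl B M) e ≪≫ₗ
            TensorProduct.prodRight A B M _ _
        have := finite_tensor (B := B) (M := M) (A := A) (ResidueField A)
        have := finite_tensor (B := B) (M := M) (A := A) (Fin d → ResidueField A)
        rw [Basic.idealDepth_congr J e']
        exact SES.le_idealDepth_middle J (f := LinearMap.inl B _ _) (g := LinearMap.snd B _ _)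
          LinearMap.inl_injective Function.Exact.inl_snd LinearMap.snd_surjective
          (by rw [Basic.idealDepth_congr J e0]; exact h) ihd
    have hR : (j : ℕ∞) ≤ idealDepth J (M ⊗[A] (N ⧸ N')) := by
      rw [Basic.idealDepth_congr J (TensorProduct.AlgebraTensorModule.congr (LinearEquiv.refl B M) eV)]
      exact hpi _
    have := finite_tensor (B := B) (M := M) (A := A) N'
    have := finite_tensor (B := B) (M := M) (A := A) N
    have := finite_tensor (B := B) (M := M) (A := A) (N ⧸ N')
    exact SES.le_idealDepth_middle J (f := TensorProduct.AlgebraTensorModule.lTensor B M N'.subtype)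
      (g := TensorProduct.AlgebraTensorModule.lTensor B M N'.mkQ)
      (Module.Flat.lTensor_preserves_injective_linearMap N'.subtype N'.injective_subtype)
      (lTensor_exact M (LinearMap.exact_subtype_mkQ N') N'.mkQ_surjective)
      (LinearMap.lTensor_surjective M N'.mkQ_surjective) (ih N' hN') hR

end Depth


end Groth.Agent.Lib.QDepth
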