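import Groth.Agent.Lib.QDepth.Local
import Mathlib.RingTheory.Ideal.KrullsHeightTheorem
import Mathlib.RingTheory.Ideal.GoingDown
import Mathlib.RingTheory.Flat.Stability

/-!
Height and depth under flat base change.
-/

universe u

open LocCoh IsLocalRing RingTheory.Sequence Pointwise TensorProduct
open Groth.Agent.Lib.Depth

namespace Groth.Agent.Lib.QDepth

variable {A B : Type u} [CommRing A] [CommRing B] [IsNoetherianRing A] [IsNoetherianRing B]
  [Algebra A B] [Module.Flat A B]

theorem height_map_eq (I : Ideal A)
    (hI : ∀ p : PrimeSpectrum A, I ≤ p.asIdeal →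
      ∃ q : PrimeSpectrum B, q.asIdeal.comap (algebraMap A B) = p.asIdeal) :
    (I.map (algebraMap A B)).height = I.height := by
  have hge : ∀ q : Ideal B, q.IsPrime → I.map (algebraMap A B) ≤ q → I.height ≤ q.height := by
    intro q hq hle
    let p := q.comap (algebraMap A B)
    have : q.LiesOver p := ⟨rfl⟩
    rw [Ideal.height_eq_height_add_of_liesOver_of_hasGoingDown (P := q) p]
    exact le_add_right (Ideal.height_mono (Ideal.map_le_iff_le_comap.mp hle))
  refine le_antisymm ?_ ?_
  · rw [Ideal.height_eq_inf_minimalPrimes (I := I)]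
    refine le_iInf₂ fun p hp => ?_
    have hpp : p.IsPrime := hp.1.1
    obtain ⟨q0, hq0⟩ := hI ⟨p, hpp⟩ hp.1.2
    obtain ⟨q, hq, hqle⟩ := Ideal.exists_minimalPrimes_le
      (I := p.map (algebraMap A B)) (J := q0.asIdeal) (Ideal.map_le_iff_le_comap.mpr hq0.ge)
    have hqp : q.IsPrime := hq.1.1
    have hover : q.LiesOver p := ⟨le_antisymm (Ideal.map_le_iff_le_comap.mp hq.1.2)
      ((Ideal.comap_mono hqle).trans hq0.le)⟩
    refine le_trans (Ideal.height_mono (le_trans (Ideal.map_mono hp.1.2) hq.1.2)) ?_
    rw [Ideal.height_eq_height_add_of_liesOver_of_hasGoingDown p]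
    have hprime : (q.map (Ideal.Quotient.mk (p.map (algebraMap A B)))).IsPrime :=
      Ideal.map_isPrime_of_surjective Ideal.Quotient.mk_surjective (by rw [Ideal.mk_ker]; exact hq.1.2)
    have h0 : (q.map (Ideal.Quotient.mk (p.map (algebraMap A B)))).height = 0 := by
      rw [Ideal.height_eq_zero_iff]
      have h1 := Ideal.comap_minimalPrimes_eq_of_surjective
        (f := Ideal.Quotient.mk (p.map (algebraMap A B))) Ideal.Quotient.mk_surjective ⊥
      have hq' : q ∈ (p.map (algebraMap A B)).minimalPrimes := hq
      rw [← RingHom.ker_eq_comap_bot, Ideal.mk_ker] at h1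
      rw [h1] at hq'
      obtain ⟨r, hr, hrq⟩ := hq'
      rw [← hrq, Ideal.map_comap_of_surjective _ Ideal.Quotient.mk_surjective]
      exact hr
    rw [h0, add_zero]
  · rw [Ideal.height_eq_inf_minimalPrimes (I := I.map (algebraMap A B))]
    exact le_iInf₂ fun q hq => hge q hq.1.1 hq.1.2

theorem idealDepth_map_eq (I : Ideal A)
    (hI : ∀ p : PrimeSpectrum A, I ≤ p.asIdeal →
      ∃ q : PrimeSpectrum B, q.asIdeal.comap (algebraMap A B) = p.asIdeal)
    (G : Type u) [AddCommGroup G] [Module A G] [Module.Finite A G] :
    idealDepth (I.map (algebraMap A B)) (B ⊗[A] G) = idealDepth I G := by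
  refine Basic.eq_of_forall_le_iff fun n => ?_
  induction n generalizing G with
  | zero => simp
  | succ n ih =>
    by_cases hG : I • (⊤ : Submodule A G) = ⊤
    · have h2 : I.map (algebraMap A B) • (⊤ : Submodule B (B ⊗[A] G)) = ⊤ := by
        rw [eq_top_iff]
        intro z _
        show z ∈ _
        clear * - hG
        induction z using TensorProduct.induction_on with
        | zero => exact Submodule.zero_mem _
        | add a b ha hb => exact Submodule.add_mem _ ha hb
        | tmul b g =>
          have hg : g ∈ I • (⊤ : Submodule A G) := by rw [hG]; exact Submodule.mem_top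
          refine Submodule.smul_induction_on hg (fun r hr m _ => ?_) (fun x y hx hy => ?_)
          · rw [← TensorProduct.smul_tmul, Algebra.smul_def,
              show (algebraMap A B r * b) ⊗ₜ[A] m = algebraMap A B r • (b ⊗ₜ[A] m) from by
                rw [TensorProduct.smul_tmul', smul_eq_mul]]
            exact Submodule.smul_mem_smul (Ideal.mem_map_of_mem _ hr) Submodule.mem_top
          · rw [TensorProduct.tmul_add]; exact Submodule.add_mem _ hx hy
      rw [Basic.idealDepth_of_smul_top_eq hG, Basic.idealDepth_of_smul_top_eq h2]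
    by_cases hx : ∃ x ∈ I, IsSMulRegular G x
    · obtain ⟨x, hxI, hreg⟩ := hx
      have hxI' : algebraMap A B x ∈ I.map (algebraMap A B) := Ideal.mem_map_of_mem _ hxI
      have hreg' : IsSMulRegular (B ⊗[A] G) (algebraMap A B x) := by
        have := (IsWeaklyRegular.of_flat_of_isBaseChange (S := B) (TensorProduct.isBaseChange A G B)
          ((isWeaklyRegular_singleton_iff G x).mpr hreg))
        simpa using this
      rw [SES.succ_le_idealDepth_iff _ hxI' hreg', SES.succ_le_idealDepth_iff _ hxI hreg,
        Basic.idealDepth_congr _ (QuotSMulTop.algebraMapTensorEquivTensorQuotSMulTop x G B)]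
      exact ih _
    · have hx' := hx
      rw [Assoc.exists_isSMulRegular_iff] at hx'
      push Not at hx'
      obtain ⟨p, hp, hIp⟩ := hx'
      have hpp := IsAssociatedPrime.isPrime hp
      obtain ⟨q, hq⟩ := hI ⟨p, hpp⟩ hIp
      obtain ⟨-, g₀, hg₀⟩ := isAssociatedPrime_iff.mp hp
      let g : (A ⧸ p) →ₗ[A] G := Submodule.liftQ p (LinearMap.toSpanSingleton A G g₀) (fun r hr => by
        rw [hg₀] at hr; simpa [Submodule.mem_colon_singleton] using hr)
      have hg : Function.Injective g := by
        rw [← LinearMap.ker_eq_bot, Submodule.ker_liftQ_eq_bot']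
        ext r
        rw [hg₀]; simp [Submodule.mem_colon_singleton]
      let m : B ⊗[A] G := (1 : B) ⊗ₜ g 1
      have hkill : ∀ b ∈ I.map (algebraMap A B), b • m = 0 := by
        intro b hb
        induction hb using Submodule.span_induction with
        | zero => exact zero_smul _ _
        | add a c _ _ ha hc => rw [add_smul, ha, hc, add_zero]
        | smul a c _ hc => rw [smul_eq_mul, mul_smul, hc, smul_zero]
        | mem b hb =>
          obtain ⟨r, hr, rfl⟩ := hb
          rw [algebraMap_smul, ← TensorProduct.tmul_smul, ← map_smul,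
            show r • (1 : A ⧸ p) = 0 by
              rw [Algebra.smul_def, mul_one]; exact Ideal.Quotient.eq_zero_iff_mem.mpr (hIp hr),
            map_zero, TensorProduct.tmul_zero]
      have hm : m ≠ 0 := by
        intro h
        have hinj := Module.Flat.lTensor_preserves_injective_linearMap (M := B) _ hg
        have h1 : (1 : B) ⊗ₜ[A] (1 : A ⧸ p) = 0 := hinj (by simpa using h)
        have h2 := congrArg (TensorProduct.tensorQuotEquivQuotSMul B p) h1
        rw [map_zero, show (1 : A ⧸ p) = Ideal.Quotient.mk p 1 from rfl,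
          TensorProduct.tensorQuotEquivQuotSMul_tmul_mk, one_smul, Submodule.Quotient.mk_eq_zero] at h2
        have h3 : (1 : B) ∈ (p.map (algebraMap A B)) := by
          rw [Ideal.smul_top_eq_map] at h2
          exact h2
        exact q.isPrime.ne_top ((Ideal.eq_top_iff_one _).mpr
          (Ideal.map_le_iff_le_comap.mpr hq.ge h3))
      have hB : ¬ 1 ≤ idealDepth (I.map (algebraMap A B)) (B ⊗[A] G) := by
        rw [Basic.one_le_idealDepth_iff]
        rintro (h | ⟨b, hb, hbreg⟩)
        · obtain ⟨r, hr1, hr2⟩ := Submodule.exists_sub_one_mem_and_smul_eq_zero_of_fg_of_le_smul _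
            (⊤ : Submodule B (B ⊗[A] G)) Module.Finite.fg_top h.ge
          refine hm ?_
          have := hkill _ hr1
          rw [sub_eq_add_neg, add_smul, neg_smul, hr2 m trivial, one_smul, zero_add] at this
          exact neg_eq_zero.mp this
        · exact hm (hbreg (by simp [hkill b hb]))
      have hA : ¬ 1 ≤ idealDepth I G := by
        rw [Basic.one_le_idealDepth_iff]
        rintro (h | h)
        · exact hG h
        · exact hx h
      have h1 : (1 : ℕ∞) ≤ ((n + 1 : ℕ) : ℕ∞) := by simp
      exact ⟨fun h => absurd (h1.trans h) hB, fun h => absurd (h1.trans h) hA⟩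

end Groth.Agent.Lib.QDepth
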