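import Groth.Agent.Lib.QDepth.FlatFibre
import Groth.Agent.Lib.LocalFlat.Criterion

/-!
Flatness from flatness off a closed set and depth of the closed fibre.
-/

universe u

open LocCoh IsLocalRing Pointwise TensorProduct
open Groth.Agent.Lib.Depth

namespace Groth.Agent.Lib.QDepth

section Generic

variable {A : Type u} [CommRing A] [IsLocalRing A] {M L : Type u} [AddCommGroup M] [Module A M]
  [AddCommGroup L] [Module A L] [Module.Flat A L] (u : M →ₗ[A] L)
  (h : Function.Injective (u.lTensor (ResidueField A)))

include h in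
/-- If `M → L` is injective on the closed fibre and `L` is flat, then `N ⊗ M → N ⊗ L` is injective
for every `N` killed by a power of the maximal ideal. -/
theorem lTensor_injective_of_killed (n : ℕ) : ∀ (N : Type u) [AddCommGroup N] [Module A N],
    (∀ r ∈ maximalIdeal A ^ n, ∀ x : N, r • x = 0) → Function.Injective (u.lTensor N) := by
  induction n with
  | zero =>
    intro N _ _ hN
    have : Subsingleton N := ⟨fun a b => by
      have ha := hN 1 (by simp) a
      have hb := hN 1 (by simp) b
      rw [one_smul] at ha hb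
      rw [ha, hb]⟩
    intro a b _
    exact Subsingleton.elim _ _
  | succ n ih =>
    intro N _ _ hN
    let N' : Submodule A N := maximalIdeal A • ⊤
    have hN' : ∀ r ∈ maximalIdeal A ^ n, ∀ x : N', r • x = 0 := by
      intro r hr x
      apply Subtype.ext
      have hx : x.1 ∈ maximalIdeal A • (⊤ : Submodule A N) := x.2
      show r • x.1 = 0
      refine Submodule.smul_induction_on hx (fun a ha m _ => ?_) (fun a b ha hb => by rw [smul_add, ha, hb, add_zero])
      rw [smul_smul]
      exact hN _ (pow_succ (maximalIdeal A) n ▸ Ideal.mul_mem_mul hr ha) m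
    have hV : Module.IsTorsionBySet A (N ⧸ N') (maximalIdeal A : Set A) := by
      intro x r
      obtain ⟨x, rfl⟩ := Submodule.mkQ_surjective _ x
      rw [← map_smul, Submodule.mkQ_apply, Submodule.Quotient.mk_eq_zero]
      exact Submodule.smul_mem_smul r.2 Submodule.mem_top
    let _ : Module (ResidueField A) (N ⧸ N') := hV.module
    have : IsScalarTower A (ResidueField A) (N ⧸ N') := IsScalarTower.of_algebraMap_smul fun _ _ => rfl
    have h3 : Function.Injective (u.lTensor (N ⧸ N')) :=
      LocalFlat.InjMod.lTensor_injective_of_smul_maximal u h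
    rw [injective_iff_map_eq_zero]
    intro z hz
    have c1 : ∀ y, u.lTensor (N ⧸ N') (N'.mkQ.rTensor M y) = N'.mkQ.rTensor L (u.lTensor N y) := fun y => by
      rw [← LinearMap.comp_apply, ← LinearMap.comp_apply, LinearMap.lTensor_comp_rTensor,
        LinearMap.rTensor_comp_lTensor]
    have c2 : ∀ y, u.lTensor N (N'.subtype.rTensor M y) = N'.subtype.rTensor L (u.lTensor N' y) := fun y => by
      rw [← LinearMap.comp_apply, ← LinearMap.comp_apply, LinearMap.lTensor_comp_rTensor,
        LinearMap.rTensor_comp_lTensor]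
    have h0 : N'.mkQ.rTensor M z = 0 := h3 (by rw [c1, hz, map_zero, map_zero])
    obtain ⟨w, rfl⟩ := ((rTensor_exact M (LinearMap.exact_subtype_mkQ N') N'.mkQ_surjective) z).1 h0
    have hw : u.lTensor N' w = 0 :=
      Module.Flat.rTensor_preserves_injective_linearMap (M := L) N'.subtype N'.injective_subtype
        (by rw [← c2, hz, map_zero])
    rw [ih N' hN' (hw.trans (map_zero _).symm), map_zero]

include h in
/-- A finite module injecting fibrewise into a flat module is flat. -/
theorem flat_of_fibrewise_injective {B : Type u} [CommRing B] [IsNoetherianRing A] [IsNoetherianRing B]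
    [IsLocalRing B] [Algebra A B] [IsLocalHom (algebraMap A B)] [Module B M] [IsScalarTower A B M]
    [Module.Finite B M] : Module.Flat A M := by
  refine LocalFlat.Criterion.flat_of_forall_pow B (maximalIdeal A)
    (LocalFlat.Criterion.map_le_jacobson_bot_of_isLocalHom (Ideal.IsPrime.ne_top inferInstance))
    fun n p => ?_
  have hp : ∀ r ∈ maximalIdeal A ^ n, ∀ x : p, r • x = 0 := by
    intro r hr x
    apply Subtype.ext
    obtain ⟨y, hy⟩ := Ideal.Quotient.mk_surjective (x.1 : A ⧸ maximalIdeal A ^ n)
    show r • x.1 = 0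
    rw [← hy, Algebra.smul_def, Ideal.Quotient.algebraMap_eq, ← map_mul, Ideal.Quotient.eq_zero_iff_mem]
    exact Ideal.mul_mem_right _ _ hr
  have h1 := lTensor_injective_of_killed u h n p hp
  have h2 : Function.Injective (p.subtype.rTensor L) :=
    Module.Flat.rTensor_preserves_injective_linearMap _ p.injective_subtype
  have h3 : Function.Injective (p.subtype.rTensor M) := by
    refine Function.Injective.of_comp (f := u.lTensor _) ?_
    rw [← LinearMap.coe_comp, LinearMap.lTensor_comp_rTensor, ← LinearMap.rTensor_comp_lTensor,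
      LinearMap.coe_comp]
    exact h2.comp h1
  rw [← LinearMap.comm_comp_rTensor_comp_comm_eq]
  simpa using h3

end Generic

section Away

variable {A B : Type u} [CommRing A] [CommRing B] [Algebra A B]
  {M : Type u} [AddCommGroup M] [Module A M] [Module B M] [IsScalarTower A B M]

/-- `M_x` is flat if `M_q` is flat for all `q` not containing `x`. -/
theorem flat_away (x : B)
    (hflat : ∀ q : PrimeSpectrum B, x ∉ q.asIdeal → Module.Flat A (LocalizedModule q.asIdeal.primeCompl M)) :
    Module.Flat A (LocalizedModule (Submonoid.powers x) M) := by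
  rw [Module.Flat.iff_lTensor_injective]
  intro I _
  let gN := TensorProduct.AlgebraTensorModule.rTensor A I
    (LocalizedModule.mkLinearMap (Submonoid.powers x) M)
  let gA := TensorProduct.AlgebraTensorModule.rTensor A A
    (LocalizedModule.mkLinearMap (Submonoid.powers x) M)
  let fM : M ⊗[A] I →ₗ[B] M ⊗[A] A := TensorProduct.AlgebraTensorModule.lTensor B M I.subtype
  let fM' : LocalizedModule (Submonoid.powers x) M ⊗[A] I →ₗ[B]
      LocalizedModule (Submonoid.powers x) M ⊗[A] A :=
    TensorProduct.AlgebraTensorModule.lTensor B _ I.subtype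
  have hcomm : ∀ y, fM' (gN y) = gA (fM y) := by
    intro y
    induction y using TensorProduct.induction_on with
    | zero => simp
    | add a b ha hb => simp only [map_add, ha, hb]
    | tmul m n => rfl
  rw [injective_iff_map_eq_zero]
  intro z hz
  obtain ⟨⟨y, s⟩, hy⟩ := IsLocalizedModule.surj (Submonoid.powers x) gN z
  have h0 : gA (fM y) = 0 := by
    rw [← hcomm, ← hy, Submonoid.smul_def, map_smul]
    show (s : B) • I.subtype.lTensor _ z = 0
    rw [hz, smul_zero]
  obtain ⟨⟨c, hc⟩, hcy⟩ := (IsLocalizedModule.eq_zero_iff (Submonoid.powers x) gA).1 h0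
  rw [Submonoid.smul_def, ← map_smul] at hcy
  -- `y' = c • y` is killed by a power of `x`
  let a : Ideal B := LinearMap.ker (LinearMap.toSpanSingleton B _ (c • y))
  have hrad : x ∈ a.radical := by
    rw [Ideal.radical_eq_sInf]
    refine Ideal.mem_sInf.mpr fun {q} hq => ?_
    obtain ⟨haq, hqp⟩ := hq
    by_contra hxq
    have := hflat ⟨q, hqp⟩ hxq
    let g := TensorProduct.AlgebraTensorModule.rTensor A I (LocalizedModule.mkLinearMap q.primeCompl M)
    have hg : g (c • y) = 0 := by
      apply Module.Flat.lTensor_preserves_injective_linearMap (R := A)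
        (M := LocalizedModule q.primeCompl M) I.subtype I.injective_subtype
      rw [map_zero]
      have : ∀ w, I.subtype.lTensor _ (g w) =
          TensorProduct.AlgebraTensorModule.rTensor A A (LocalizedModule.mkLinearMap q.primeCompl M) (fM w) := by
        intro w
        induction w using TensorProduct.induction_on with
        | zero => simp
        | add a b ha hb => simp only [map_add, ha, hb]
        | tmul m n => rfl
      rw [this, hcy, map_zero]
    obtain ⟨t, ht⟩ := (IsLocalizedModule.eq_zero_iff q.primeCompl g).1 hg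
    exact t.2 (haq (by simpa [a, Submonoid.smul_def] using ht))
  obtain ⟨k, hk⟩ := hrad
  have hk' : (x ^ k * c) • y = 0 := by simpa [a, mul_smul] using hk
  have h2 : gN y = 0 :=
    (IsLocalizedModule.eq_zero_iff (Submonoid.powers x) gN).2
      ⟨⟨x ^ k * c, mul_mem ⟨k, rfl⟩ hc⟩, hk'⟩
  rw [h2, Submonoid.smul_def] at hy
  apply ((Module.End.isUnit_iff _).1 (IsLocalizedModule.map_units gN s)).1
  show (s : B) • z = (s : B) • (0 : _ ⊗[A] I)
  rw [hy, smul_zero]

end Away

/-- Flatness from flatness off `V(J)` and `depth_J` of the closed fibre. -/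
theorem flat_of_flatAt_off {A B : Type u} [CommRing A] [CommRing B]
    [IsNoetherianRing A] [IsNoetherianRing B] [IsLocalRing A] [IsLocalRing B] [Algebra A B]
    [IsLocalHom (algebraMap A B)] (J : Ideal B)
    (M : Type u) [AddCommGroup M] [Module B M] [Module A M] [IsScalarTower A B M] [Module.Finite B M]
    (hU : ∀ q : PrimeSpectrum B, ¬ J ≤ q.asIdeal → Module.Flat A (LocalizedModule q.asIdeal.primeCompl M))
    (h1 : 1 ≤ idealDepth J (M ⧸ ((maximalIdeal A).map (algebraMap A B) • (⊤ : Submodule B M)))) :
    Module.Flat A M := by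
  let mB := (maximalIdeal A).map (algebraMap A B)
  by_cases hJM : J • (⊤ : Submodule B (M ⧸ (mB • (⊤ : Submodule B M)))) = ⊤ ∧ J ≠ ⊤
  · obtain ⟨hJM, hJ⟩ := hJM
    have : Subsingleton M := by
      by_contra hc
      have := not_subsingleton_iff_nontrivial.mp hc
      have hle : J ⊔ mB ≠ ⊤ := fun ht => Ideal.IsPrime.ne_top' (I := maximalIdeal B)
        (top_le_iff.mp (ht.ge.trans (sup_le (le_maximalIdeal hJ) (map_maximalIdeal_le (algebraMap A B)))))
      refine Basic.smul_top_ne_top (M := M) hle ?_
      have := congrArg (Submodule.comap (mB • (⊤ : Submodule B M)).mkQ) hJM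
      rw [Submodule.comap_top, ← Basic.smul_top_map J _ (Submodule.mkQ_surjective _),
        Submodule.comap_map_mkQ] at this
      rw [Submodule.sup_smul, sup_comm]
      exact this
    exact Module.Flat.iff_lTensor_injective.mpr fun I _ a b _ => Subsingleton.elim a b
  obtain ⟨x, hxJ, hx⟩ : ∃ x ∈ J, IsSMulRegular (M ⧸ (mB • (⊤ : Submodule B M))) x := by
    by_cases hJ : J = ⊤
    · exact ⟨1, hJ ▸ Submodule.mem_top, IsSMulRegular.one _⟩
    · exact ((Basic.one_le_idealDepth_iff).mp h1).resolve_left (fun h => hJM ⟨h, hJ⟩)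
  let ι : M →ₗ[A] LocalizedModule (Submonoid.powers x) M :=
    (LocalizedModule.mkLinearMap (Submonoid.powers x) M).restrictScalars A
  have := flat_away (A := A) (M := M) x (fun q hq => hU q (fun hle => hq (hle hxJ)))
  refine flat_of_fibrewise_injective ι ?_ (B := B)
  suffices hs : Function.Injective (ι.lTensor (A ⧸ maximalIdeal A)) from hs
  rw [injective_iff_map_eq_zero]
  intro z hz
  let e := TensorProduct.quotTensorEquivQuotSMul M (maximalIdeal A)
  let e' := TensorProduct.quotTensorEquivQuotSMul (LocalizedModule (Submonoid.powers x) M) (maximalIdeal A)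
  have hmap : maximalIdeal A • (⊤ : Submodule A M) ≤ (maximalIdeal A • ⊤ : Submodule A _).comap ι := by
    rw [← Submodule.map_le_iff_le_comap, Submodule.map_smul'']
    exact Submodule.smul_mono le_rfl le_top
  have key : ∀ z, e' (ι.lTensor _ z) = Submodule.mapQ _ _ ι hmap (e z) := by
    intro z
    induction z using TensorProduct.induction_on with
    | zero => simp
    | add a b ha hb => simp only [map_add, ha, hb]
    | tmul r m =>
      obtain ⟨r, rfl⟩ := Ideal.Quotient.mk_surjective r
      simp [e, e', Submodule.mapQ_apply, map_smul]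
  have h0 := key z
  rw [hz, map_zero] at h0
  obtain ⟨m, hm⟩ := Submodule.mkQ_surjective _ (e z)
  rw [← hm, Submodule.mkQ_apply, Submodule.mapQ_apply, eq_comm, Submodule.Quotient.mk_eq_zero,
    ← restrictScalars_smul_top (B := B), Submodule.restrictScalars_mem] at h0
  apply e.injective
  rw [map_zero, ← hm, Submodule.mkQ_apply, Submodule.Quotient.mk_eq_zero,
    ← restrictScalars_smul_top (B := B), Submodule.restrictScalars_mem]
  -- `ι m ∈ mB • M_x` gives `x ^ k • m ∈ mB • M`
  let g := LocalizedModule.mkLinearMap (Submonoid.powers x) M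
  have hclear : ∀ w ∈ mB • (⊤ : Submodule B (LocalizedModule (Submonoid.powers x) M)),
      ∃ c : Submonoid.powers x, ∃ y ∈ mB • (⊤ : Submodule B M), c.1 • w = g y := by
    intro w hw
    refine Submodule.smul_induction_on hw (fun r hr l _ => ?_) (fun a b ha hb => ?_)
    · obtain ⟨⟨y, s⟩, hs⟩ := IsLocalizedModule.surj (Submonoid.powers x) g l
      exact ⟨s, r • y, Submodule.smul_mem_smul hr Submodule.mem_top, by
        rw [smul_comm, map_smul, ← hs]; rfl⟩
    · obtain ⟨c, y, hy, hc⟩ := ha
      obtain ⟨c', y', hy', hc'⟩ := hb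
      refine ⟨c * c', c'.1 • y + c.1 • y', add_mem (Submodule.smul_mem _ _ hy) (Submodule.smul_mem _ _ hy'), ?_⟩
      rw [map_add, map_smul, map_smul, ← hc, ← hc', smul_add, Submonoid.coe_mul, smul_smul, smul_smul,
        mul_comm c'.1 c.1]
  obtain ⟨c, y, hy, hc⟩ := hclear _ h0
  obtain ⟨d, hd⟩ := (IsLocalizedModule.eq_iff_exists (Submonoid.powers x) g).mp
    (show g (c.1 • m) = g y by rw [map_smul]; exact hc)
  rw [Submonoid.smul_def, Submonoid.smul_def] at hd
  obtain ⟨j, hj⟩ := (d * c).2
  have hmem : x ^ j • m ∈ mB • (⊤ : Submodule B M) := by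
    rw [show x ^ j = d.1 * c.1 from hj, mul_smul, hd]
    exact Submodule.smul_mem _ _ hy
  rw [← Submodule.Quotient.mk_eq_zero, Submodule.Quotient.mk_smul] at hmem
  rw [← Submodule.Quotient.mk_eq_zero]
  exact (hx.pow j).right_eq_zero_of_smul hmem

end Groth.Agent.Lib.QDepth
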