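import Groth.Agent.Lib.QDepth.FibreTensor
import Mathlib.Algebra.Module.LocalizedModule.Exact

/-!
Flatness of the cokernel in a four term sequence versus depth of the closed fibre of the kernel.
-/

universe u

open LocCoh IsLocalRing Pointwise TensorProduct
open Groth.Agent.Lib.Depth

namespace Groth.Agent.Lib.QDepth

variable {A B : Type u} [CommRing A] [CommRing B] [IsNoetherianRing A] [IsNoetherianRing B]
  [IsLocalRing A] [IsLocalRing B] [Algebra A B] [IsLocalHom (algebraMap A B)] (J : Ideal B)

theorem le_idealDepth_quot_pow {M : Type u} [AddCommGroup M] [Module A M] [Module B M]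
    [IsScalarTower A B M] [Module.Finite B M] [Module.Flat A M] {j : ℕ}
    (h : (j : ℕ∞) ≤ idealDepth J (M ⧸ ((maximalIdeal A).map (algebraMap A B) • (⊤ : Submodule B M))))
    (n : ℕ) :
    (j : ℕ∞) ≤ idealDepth J (M ⧸ (((maximalIdeal A).map (algebraMap A B)) ^ n • (⊤ : Submodule B M))) := by
  obtain ⟨e⟩ := exists_quot_equiv (B := B) (M := M) (maximalIdeal A ^ n)
  have h2 := le_idealDepth_tensor J h n (A ⧸ maximalIdeal A ^ n) (fun r hr x => by
    obtain ⟨y, rfl⟩ := Ideal.Quotient.mk_surjective x
    rw [Algebra.smul_def, Ideal.Quotient.algebraMap_eq, ← map_mul, Ideal.Quotient.eq_zero_iff_mem]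
    exact Ideal.mul_mem_right _ _ hr)
  rw [Basic.idealDepth_congr J e, Ideal.map_pow] at h2
  exact h2

variable {F E0 E1 G : Type u} [AddCommGroup F] [Module B F] [Module A F] [IsScalarTower A B F]
  [Module.Finite B F]
  [AddCommGroup E0] [Module B E0] [Module A E0] [IsScalarTower A B E0] [Module.Finite B E0] [Module.Flat A E0]
  [AddCommGroup E1] [Module B E1] [Module A E1] [IsScalarTower A B E1] [Module.Finite B E1] [Module.Flat A E1]
  [AddCommGroup G] [Module B G] [Module A G] [IsScalarTower A B G] [Module.Finite B G]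
  (f : F →ₗ[B] E0) (u : E0 →ₗ[B] E1) (v : E1 →ₗ[B] G)
  (hf : Function.Injective f) (hfu : Function.Exact f u) (huv : Function.Exact u v) (hv : Function.Surjective v)

omit [IsNoetherianRing A] [IsNoetherianRing B] [IsLocalRing A] [IsLocalRing B]
  [IsLocalHom (algebraMap A B)] [Module.Finite B F] [Module.Finite B E0] [Module.Finite B E1] [Module.Finite B G] in
include hf hfu huv hv in
theorem flat_kernel_of_flat [Module.Flat A G] : Module.Flat A F := by
  have : Module.Flat A (LinearMap.range u) :=
    FlatCx.Ker.flat_of_exact (Z := G) ((LinearMap.range u).subtype.restrictScalars A) (v.restrictScalars A)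
      Subtype.val_injective hv (fun y => (huv y).trans ⟨fun ⟨z, hz⟩ => ⟨⟨y, z, hz⟩, rfl⟩,
        fun ⟨z, hz⟩ => hz ▸ z.2⟩)
  exact FlatCx.Ker.flat_of_exact (f.restrictScalars A) (u.rangeRestrict.restrictScalars A) hf
    u.surjective_rangeRestrict (fun y => by
      refine Iff.trans ?_ (hfu y)
      exact Subtype.ext_iff)

include hf hfu huv hv in
theorem two_le_quot_pow_of_flat [Module.Flat A G]
    (h0 : 2 ≤ idealDepth J (E0 ⧸ ((maximalIdeal A).map (algebraMap A B) • (⊤ : Submodule B E0))))
    (h1 : 1 ≤ idealDepth J (E1 ⧸ ((maximalIdeal A).map (algebraMap A B) • (⊤ : Submodule B E1))))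
    (n : ℕ) :
    2 ≤ idealDepth J (F ⧸ (((maximalIdeal A).map (algebraMap A B)) ^ n • (⊤ : Submodule B F))) := by
  let N := A ⧸ maximalIdeal A ^ n
  have hN : ∀ r ∈ maximalIdeal A ^ n, ∀ x : N, r • x = 0 := fun r hr x => by
    obtain ⟨y, rfl⟩ := Ideal.Quotient.mk_surjective x
    rw [Algebra.smul_def, Ideal.Quotient.algebraMap_eq, ← map_mul, Ideal.Quotient.eq_zero_iff_mem]
    exact Ideal.mul_mem_right _ _ hr
  obtain ⟨hinj, hex⟩ := rTensor_exact_of_flat_coker (f.restrictScalars A) (u.restrictScalars A)
    (v.restrictScalars A) hf hfu huv hv N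
  have := finite_tensor (A := A) (B := B) (M := F) N
  have := finite_tensor (A := A) (B := B) (M := E0) N
  have := finite_tensor (A := A) (B := B) (M := E1) N
  have h2 := two_le_of_exact J (TensorProduct.AlgebraTensorModule.rTensor A N f)
    (TensorProduct.AlgebraTensorModule.rTensor A N u) hinj hex
    (by simpa using le_idealDepth_tensor (M := E0) J (j := 2) (by simpa using h0) n N hN)
    (by simpa using le_idealDepth_tensor (M := E1) J (j := 1) (by simpa using h1) n N hN)
  obtain ⟨e⟩ := exists_quot_equiv (B := B) (M := F) (maximalIdeal A ^ n)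
  rw [Basic.idealDepth_congr J e, Ideal.map_pow] at h2
  exact h2

include hfu huv hv in
/-- If the four term sequence is exact at `E0` on the closed fibre, the cokernel is flat. -/
theorem flat_coker_of_exact_fibre
    (hex : ∀ z : E0 ⊗[A] ResidueField A,
      TensorProduct.AlgebraTensorModule.rTensor A (ResidueField A) u z = (0 : E1 ⊗[A] ResidueField A) →
        ∃ w, TensorProduct.AlgebraTensorModule.rTensor A (ResidueField A) f w = z) :
    Module.Flat A G := by
  let k := ResidueField A
  let C := LinearMap.range u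
  let i : C →ₗ[A] E1 := C.subtype.restrictScalars A
  let r : E0 →ₗ[B] C := u.rangeRestrict
  have hk : Function.Injective (i.lTensor k) := by
    suffices hs : Function.Injective (i.rTensor k) by
      rw [← LinearMap.comm_comp_rTensor_comp_comm_eq]
      simpa using hs
    rw [injective_iff_map_eq_zero]
    intro z hz
    obtain ⟨y, rfl⟩ := LinearMap.rTensor_surjective k (g := r.restrictScalars A) u.surjective_rangeRestrict z
    have hy : TensorProduct.AlgebraTensorModule.rTensor A k u y = 0 := by
      rw [← hz, ← LinearMap.comp_apply, ← LinearMap.rTensor_comp]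
      rfl
    obtain ⟨w, rfl⟩ := hex y hy
    have hrf : (r.restrictScalars A) ∘ₗ (f.restrictScalars A) = 0 := by
      apply LinearMap.ext
      intro x
      exact Subtype.ext (hfu.apply_apply_eq_zero x)
    show (r.restrictScalars A).rTensor k ((f.restrictScalars A).rTensor k w) = 0
    rw [← LinearMap.comp_apply, ← LinearMap.rTensor_comp, hrf, LinearMap.rTensor_zero, LinearMap.zero_apply]
  have hflat := LocalFlat.InjMod.flat_coker i hk B
  let eG : (E1 ⧸ LinearMap.range i) ≃ₗ[A] G :=
    Submodule.quotEquivOfEq _ (LinearMap.ker (v.restrictScalars A)) (by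
      ext x
      exact ⟨fun ⟨c, hc⟩ => (huv x).mpr (hc ▸ c.2), fun hx => ⟨⟨x, (huv x).mp hx⟩, rfl⟩⟩) ≪≫ₗ
      (v.restrictScalars A).quotKerEquivOfSurjective hv
  exact Module.Flat.of_linearEquiv eG.symm

omit [IsNoetherianRing A] [IsNoetherianRing B] [IsLocalRing A] [IsLocalRing B]
  [IsLocalHom (algebraMap A B)] [Module.Finite B F] [Module.Finite B E0] [Module.Finite B E1]
  [Module.Finite B G] in
include hf hfu huv hv in
/-- Where the cokernel is flat the sequence stays exact after tensoring. -/
theorem local_exact (q : PrimeSpectrum B)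
    (hq : Module.Flat A (LocalizedModule q.asIdeal.primeCompl G))
    (N : Type u) [AddCommGroup N] [Module A N] :
    Module.Flat A (LocalizedModule q.asIdeal.primeCompl F) ∧
      (∀ z : F ⊗[A] N, TensorProduct.AlgebraTensorModule.rTensor A N f z = (0 : E0 ⊗[A] N) →
        ∃ t ∉ q.asIdeal, t • z = 0) ∧
      (∀ z : E0 ⊗[A] N, TensorProduct.AlgebraTensorModule.rTensor A N u z = (0 : E1 ⊗[A] N) →
        ∃ t ∉ q.asIdeal, ∃ w, TensorProduct.AlgebraTensorModule.rTensor A N f w = t • z) := by
  let W := q.asIdeal.primeCompl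
  have := flat_localized (A := A) W E0
  have := flat_localized (A := A) W E1
  let fW := ((LocalizedModule.map W f).restrictScalars B)
  let uW := ((LocalizedModule.map W u).restrictScalars B)
  let vW := ((LocalizedModule.map W v).restrictScalars B)
  have x1 : Function.Injective fW := LocalizedModule.map_injective W f hf
  have x2 : Function.Exact fW uW := LocalizedModule.map_exact W f u hfu
  have x3 : Function.Exact uW vW := LocalizedModule.map_exact W u v huv
  have x4 : Function.Surjective vW := LocalizedModule.map_surjective W v hv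
  refine ⟨flat_kernel_of_flat (A := A) fW uW vW x1 x2 x3 x4, ?_⟩
  obtain ⟨hinj, hex⟩ := rTensor_exact_of_flat_coker (fW.restrictScalars A) (uW.restrictScalars A)
    (vW.restrictScalars A) x1 x2 x3 x4 N
  let gF := TensorProduct.AlgebraTensorModule.rTensor A N (LocalizedModule.mkLinearMap W F)
  let g0 := TensorProduct.AlgebraTensorModule.rTensor A N (LocalizedModule.mkLinearMap W E0)
  let g1 := TensorProduct.AlgebraTensorModule.rTensor A N (LocalizedModule.mkLinearMap W E1)
  let α := TensorProduct.AlgebraTensorModule.rTensor A N f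
  let αW := TensorProduct.AlgebraTensorModule.rTensor A N fW
  have c1 : ∀ z, αW (gF z) = g0 (α z) := by
    intro z
    induction z using TensorProduct.induction_on with
    | zero => simp
    | add a b ha hb => simp only [map_add, ha, hb]
    | tmul a b => simp [αW, gF, g0, α, fW, LocalizedModule.mkLinearMap_apply, LocalizedModule.map_mk]
  have c2 : ∀ z, TensorProduct.AlgebraTensorModule.rTensor A N uW (g0 z) =
      g1 (TensorProduct.AlgebraTensorModule.rTensor A N u z) := by
    intro z
    induction z using TensorProduct.induction_on with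
    | zero => simp
    | add a b ha hb => simp only [map_add, ha, hb]
    | tmul a b => simp [g0, g1, uW, LocalizedModule.mkLinearMap_apply, LocalizedModule.map_mk]
  refine ⟨fun z hz => ?_, fun z hz => ?_⟩
  · have h3 : αW (gF z) = 0 := by rw [c1]; show g0 (α z) = 0; rw [show α z = 0 from hz, map_zero]
    obtain ⟨t, ht⟩ := (IsLocalizedModule.eq_zero_iff W gF).mp (hinj (h3.trans (map_zero αW).symm))
    exact ⟨t.1, t.2, ht⟩
  · obtain ⟨w, hw⟩ := (hex (g0 z)).mp (by
      show TensorProduct.AlgebraTensorModule.rTensor A N uW (g0 z) = 0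
      rw [c2, hz, map_zero])
    obtain ⟨⟨y, s⟩, hs⟩ := IsLocalizedModule.surj W gF w
    have h4 : g0 (α y) = g0 (s.1 • z) := by
      rw [← c1, map_smul, ← hs, Submonoid.smul_def, map_smul]
      exact congrArg _ hw
    obtain ⟨c, hc⟩ := (IsLocalizedModule.eq_iff_exists W g0).mp h4
    rw [Submonoid.smul_def, Submonoid.smul_def, smul_smul] at hc
    exact ⟨c.1 * s.1, fun h => (q.isPrime.mem_or_mem h).elim c.2 s.2, c.1 • y, by rw [map_smul]; exact hc⟩

include hf hfu huv hv in
/-- If the closed fibre of the kernel has depth two and the cokernel is flat off `V(J)`, it is flat. -/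
theorem flat_coker_of_two_le
    (hGU : ∀ q : PrimeSpectrum B, ¬ J ≤ q.asIdeal → Module.Flat A (LocalizedModule q.asIdeal.primeCompl G))
    (h0 : 2 ≤ idealDepth J (E0 ⧸ ((maximalIdeal A).map (algebraMap A B) • (⊤ : Submodule B E0))))
    (hF : 2 ≤ idealDepth J (F ⧸ ((maximalIdeal A).map (algebraMap A B) • (⊤ : Submodule B F)))) :
    Module.Flat A G := by
  let k := ResidueField A
  have hloc := fun q (hq : ¬ J ≤ (q : PrimeSpectrum B).asIdeal) =>
    local_exact f u v hf hfu huv hv q (hGU q hq) k
  have hF1 : 1 ≤ idealDepth J (F ⧸ ((maximalIdeal A).map (algebraMap A B) • (⊤ : Submodule B F))) :=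
    le_trans (by simp) hF
  have : Module.Flat A F := flat_of_flatAt_off J F (fun q hq => (hloc q hq).1) hF1
  have := finite_tensor (A := A) (B := B) (M := F) k
  have := finite_tensor (A := A) (B := B) (M := E0) k
  have := finite_tensor (A := A) (B := B) (M := E1) k
  obtain ⟨eF⟩ := exists_fibre_equiv (A := A) (B := B) (M := F)
  obtain ⟨e0⟩ := exists_fibre_equiv (A := A) (B := B) (M := E0)
  let α := TensorProduct.AlgebraTensorModule.rTensor A k f
  let β := TensorProduct.AlgebraTensorModule.rTensor A k u
  have hFk : 2 ≤ idealDepth J (F ⊗[A] k) := by rw [Basic.idealDepth_congr J eF]; exact hF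
  have hE0k : 2 ≤ idealDepth J (E0 ⊗[A] k) := by rw [Basic.idealDepth_congr J e0]; exact h0
  have hα : Function.Injective α := by
    rw [← LinearMap.ker_eq_bot, ← Submodule.subsingleton_iff_eq_bot]
    refine subsingleton_of_one_le J (fun q hq => ?_)
      (one_le_of_injective J (LinearMap.ker α).subtype Subtype.val_injective (le_trans (by simp) hFk))
    by_contra hc
    obtain ⟨z, hz⟩ := Module.mem_support_iff'.mp hq
    obtain ⟨t, ht, htz⟩ := (hloc q hc).2.1 z.1 z.2
    exact hz t ht (Subtype.ext htz)
  have hβα : ∀ w, β (α w) = 0 := by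
    intro w
    induction w using TensorProduct.induction_on with
    | zero => simp
    | add a b ha hb => simp only [map_add, ha, hb, add_zero]
    | tmul a b => simp [α, β, hfu.apply_apply_eq_zero]
  let α' : (F ⊗[A] k) →ₗ[B] LinearMap.ker β := LinearMap.codRestrict _ α hβα
  have hαβ : Function.Exact α β := by
    have hP : 1 ≤ idealDepth J (LinearMap.ker β) :=
      one_le_of_injective J (LinearMap.ker β).subtype Subtype.val_injective (le_trans (by simp) hE0k)
    have hK : Subsingleton (LinearMap.ker β ⧸ LinearMap.range α') := by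
      refine subsingleton_of_one_le J (fun q hq => ?_) ?_
      · by_contra hc
        obtain ⟨z, hz⟩ := Module.mem_support_iff'.mp hq
        obtain ⟨z, rfl⟩ := Submodule.mkQ_surjective _ z
        obtain ⟨t, ht, w, hw⟩ := (hloc q hc).2.2 z.1 z.2
        refine hz t ht ?_
        rw [← map_smul, Submodule.mkQ_apply, Submodule.Quotient.mk_eq_zero]
        exact ⟨w, Subtype.ext hw⟩
      · have := SES.le_idealDepth_right J (f := α') (g := (LinearMap.range α').mkQ) (n := 1)
          (fun a b hab => hα (congrArg Subtype.val hab))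
          (by rw [LinearMap.exact_iff, Submodule.ker_mkQ]) (Submodule.mkQ_surjective _)
          (by simpa using hP) (by simpa using hFk)
        simpa using this
    intro z
    refine ⟨fun hz => ?_, ?_⟩
    · have : (⟨z, hz⟩ : LinearMap.ker β) ∈ LinearMap.range α' := by
        rw [Submodule.Quotient.subsingleton_iff.mp hK]; trivial
      obtain ⟨w, hw⟩ := this
      exact ⟨w, congrArg Subtype.val hw⟩
    · rintro ⟨w, rfl⟩
      exact hβα w
  exact flat_coker_of_exact_fibre f u v hfu huv hv fun z hz => (hαβ z).mp hz

end Groth.Agent.Lib.QDepth
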