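import Groth.Agent.Lib.QDepth.KerBC
import Mathlib.RingTheory.Localization.LocalizationLocalization

/-!
The four term criterion at a prime.
-/

universe u

open LocCoh IsLocalRing Pointwise TensorProduct
open Groth.Agent.Lib.Depth

namespace Groth.Agent.Lib.QDepth

/-- A localization of a localization is a localization. -/
theorem exists_localized_localized {A : Type u} [CommRing A] (p : PrimeSpectrum A) (M : Type u)
    [AddCommGroup M] [Module A M] (q' : PrimeSpectrum (Localization.AtPrime p.asIdeal)) :
    Nonempty (LocalizedModule (q'.asIdeal.comap (algebraMap A (Localization.AtPrime p.asIdeal))).primeCompl M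
      ≃ₗ[A] LocalizedModule q'.asIdeal.primeCompl (LocalizedModule p.asIdeal.primeCompl M)) := by
  let Ap := Localization.AtPrime p.asIdeal
  let q := q'.asIdeal.comap (algebraMap A Ap)
  let S := Localization.AtPrime q'.asIdeal
  let Mp := LocalizedModule p.asIdeal.primeCompl M
  let N := LocalizedModule q'.asIdeal.primeCompl Mp
  let f₁ := LocalizedModule.mkLinearMap p.asIdeal.primeCompl M
  let f₂ := LocalizedModule.mkLinearMap q'.asIdeal.primeCompl Mp
  let f : M →ₗ[A] N := (f₂.restrictScalars A) ∘ₗ f₁
  have hloc : IsLocalizedModule q.primeCompl f := by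
    refine ⟨fun t => ?_, fun n => ?_, fun {m₁ m₂} hm => ?_⟩
    · have hu : IsUnit ((algebraMap A S) (t : A)) := by
        rw [IsScalarTower.algebraMap_apply A Ap S]
        exact IsLocalization.map_units S (⟨algebraMap A Ap t, t.2⟩ : q'.asIdeal.primeCompl)
      refine (Module.End.isUnit_iff _).2 ?_
      convert (Module.End.isUnit_iff _).1 (hu.map (Algebra.lsmul A A N)) using 1
      ext z
      simp [Module.algebraMap_end_apply]
    · obtain ⟨⟨y, t⟩, hyt⟩ := IsLocalizedModule.surj q'.asIdeal.primeCompl f₂ n
      obtain ⟨⟨m, s⟩, hms⟩ := IsLocalizedModule.surj p.asIdeal.primeCompl f₁ y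
      obtain ⟨⟨t₀, u⟩, htu⟩ := IsLocalization.surj p.asIdeal.primeCompl (t : Ap)
      have hu : ∀ v : p.asIdeal.primeCompl, algebraMap A Ap (v : A) ∉ q'.asIdeal := fun v hv =>
        q'.isPrime.ne_top (q'.asIdeal.eq_top_of_isUnit_mem hv (IsLocalization.map_units Ap v))
      refine ⟨((u : A) • m, ⟨s * t₀, fun hc => ?_⟩), ?_⟩
      · rcases (show q.IsPrime from inferInstance).mem_or_mem hc with hc | hc
        · exact hu s hc
        · change algebraMap A Ap t₀ ∈ q'.asIdeal at hc
          dsimp only at htu
          rw [← htu] at hc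
          exact (q'.isPrime.mem_or_mem hc).elim t.2 (hu u)
      · change ((s : A) * t₀) • n = f ((u : A) • m)
        rw [map_smul, mul_smul]
        change (s : A) • t₀ • n = (u : A) • f₂ (f₁ m)
        dsimp only at hms htu hyt
        rw [← hms, Submonoid.smul_def, LinearMap.map_smul_of_tower, ← hyt, Submonoid.smul_def,
          ← algebraMap_smul Ap t₀ n, ← htu, mul_comm, mul_smul, algebraMap_smul]
        exact smul_comm _ _ _
    · change f₂ (f₁ m₁) = f₂ (f₁ m₂) at hm
      obtain ⟨t, ht⟩ := (IsLocalizedModule.eq_iff_exists q'.asIdeal.primeCompl f₂).1 hm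
      obtain ⟨⟨t₀, u⟩, htu⟩ := IsLocalization.surj p.asIdeal.primeCompl (t : Ap)
      dsimp only at htu
      have h2 : f₁ (t₀ • m₁) = f₁ (t₀ • m₂) := by
        rw [map_smul, map_smul, ← algebraMap_smul Ap t₀, ← algebraMap_smul Ap t₀, ← htu, mul_comm,
          mul_smul, mul_smul]
        exact congrArg _ ht
      obtain ⟨v, hv⟩ := (IsLocalizedModule.eq_iff_exists p.asIdeal.primeCompl f₁).1 h2
      have hu : ∀ v : p.asIdeal.primeCompl, algebraMap A Ap (v : A) ∉ q'.asIdeal := fun v hv =>
        q'.isPrime.ne_top (q'.asIdeal.eq_top_of_isUnit_mem hv (IsLocalization.map_units Ap v))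
      refine ⟨⟨v * t₀, fun hc => ?_⟩, ?_⟩
      · rcases (show q.IsPrime from inferInstance).mem_or_mem hc with hc | hc
        · exact hu v hc
        · change algebraMap A Ap t₀ ∈ q'.asIdeal at hc
          rw [← htu] at hc
          exact (q'.isPrime.mem_or_mem hc).elim t.2 (hu u)
      · simp only [Submonoid.smul_def] at hv ⊢
        rw [mul_smul, mul_smul]
        exact hv
  exact ⟨IsLocalizedModule.iso q.primeCompl f⟩

section

variable {A B : Type u} [CommRing A] [CommRing B] [IsNoetherianRing A] [IsNoetherianRing B]
  [Algebra A B] (J : Ideal B) {F E0 E1 G : Type u}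
  [AddCommGroup F] [Module B F] [Module A F] [IsScalarTower A B F] [Module.Finite B F]
  [AddCommGroup E0] [Module B E0] [Module A E0] [IsScalarTower A B E0] [Module.Finite B E0] [Module.Flat A E0]
  [AddCommGroup E1] [Module B E1] [Module A E1] [IsScalarTower A B E1] [Module.Finite B E1] [Module.Flat A E1]
  [AddCommGroup G] [Module B G] [Module A G] [IsScalarTower A B G] [Module.Finite B G]
  (f : F →ₗ[B] E0) (u : E0 →ₗ[B] E1) (v : E1 →ₗ[B] G)
  (hf : Function.Injective f) (hfu : Function.Exact f u) (huv : Function.Exact u v) (hv : Function.Surjective v)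
  (hGU : ∀ q : PrimeSpectrum B, ¬ J ≤ q.asIdeal → Module.Flat A (LocalizedModule q.asIdeal.primeCompl G))
  (q : PrimeSpectrum B)
  (h0 : 2 ≤ idealDepth (J.map (algebraMap B (EGA4.FibLocRing A B q.asIdeal))) (EGA4.FibLocMod A B q.asIdeal E0))
  (h1 : 1 ≤ idealDepth (J.map (algebraMap B (EGA4.FibLocRing A B q.asIdeal))) (EGA4.FibLocMod A B q.asIdeal E1))

include hf hfu huv hv hGU h0 h1 in
/-- `G` is flat at `q` iff the fibre stalk of `F` has depth two along `J`. -/
theorem flatAt_coker_iff :
    2 ≤ idealDepth (J.map (algebraMap B (EGA4.FibLocRing A B q.asIdeal))) (EGA4.FibLocMod A B q.asIdeal F) ↔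
      Module.Flat A (LocalizedModule q.asIdeal.primeCompl G) := by
  let p := q.asIdeal.comap (algebraMap A B)
  let Ap := Localization.AtPrime p
  let Bq := Localization.AtPrime q.asIdeal
  let φ : Ap →+* Bq := Localization.localRingHom p q.asIdeal (algebraMap A B) rfl
  let _ : Algebra Ap Bq := φ.toAlgebra
  have : IsLocalHom (algebraMap Ap Bq) :=
    inferInstanceAs (IsLocalHom (Localization.localRingHom p q.asIdeal (algebraMap A B) rfl))
  have : IsScalarTower A Ap Bq := IsScalarTower.of_algebraMap_eq fun a => by
    rw [RingHom.algebraMap_toAlgebra, Localization.localRingHom_to_map]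
    exact (IsScalarTower.algebraMap_apply A B Bq a)
  let _ : Module Ap (LocalizedModule q.asIdeal.primeCompl F) := Module.compHom _ φ
  have : IsScalarTower Ap Bq (LocalizedModule q.asIdeal.primeCompl F) := IsScalarTower.of_algebraMap_smul fun _ _ => rfl
  have : IsScalarTower A Ap (LocalizedModule q.asIdeal.primeCompl F) := IsScalarTower.of_algebraMap_smul fun a m => by
    show φ (algebraMap A Ap a) • m = a • m
    rw [show φ (algebraMap A Ap a) = algebraMap A Bq a from
      (IsScalarTower.algebraMap_apply A Ap Bq a).symm, algebraMap_smul]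
  let _ : Module Ap (LocalizedModule q.asIdeal.primeCompl E0) := Module.compHom _ φ
  have : IsScalarTower Ap Bq (LocalizedModule q.asIdeal.primeCompl E0) := IsScalarTower.of_algebraMap_smul fun _ _ => rfl
  have : IsScalarTower A Ap (LocalizedModule q.asIdeal.primeCompl E0) := IsScalarTower.of_algebraMap_smul fun a m => by
    show φ (algebraMap A Ap a) • m = a • m
    rw [show φ (algebraMap A Ap a) = algebraMap A Bq a from
      (IsScalarTower.algebraMap_apply A Ap Bq a).symm, algebraMap_smul]
  let _ : Module Ap (LocalizedModule q.asIdeal.primeCompl E1) := Module.compHom _ φ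
  have : IsScalarTower Ap Bq (LocalizedModule q.asIdeal.primeCompl E1) := IsScalarTower.of_algebraMap_smul fun _ _ => rfl
  have : IsScalarTower A Ap (LocalizedModule q.asIdeal.primeCompl E1) := IsScalarTower.of_algebraMap_smul fun a m => by
    show φ (algebraMap A Ap a) • m = a • m
    rw [show φ (algebraMap A Ap a) = algebraMap A Bq a from
      (IsScalarTower.algebraMap_apply A Ap Bq a).symm, algebraMap_smul]
  let _ : Module Ap (LocalizedModule q.asIdeal.primeCompl G) := Module.compHom _ φ
  have : IsScalarTower Ap Bq (LocalizedModule q.asIdeal.primeCompl G) := IsScalarTower.of_algebraMap_smul fun _ _ => rfl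
  have : IsScalarTower A Ap (LocalizedModule q.asIdeal.primeCompl G) := IsScalarTower.of_algebraMap_smul fun a m => by
    show φ (algebraMap A Ap a) • m = a • m
    rw [show φ (algebraMap A Ap a) = algebraMap A Bq a from
      (IsScalarTower.algebraMap_apply A Ap Bq a).symm, algebraMap_smul]
  have : Module.Flat A (LocalizedModule q.asIdeal.primeCompl E0) := flat_localized q.asIdeal.primeCompl E0
  have : Module.Flat Ap (LocalizedModule q.asIdeal.primeCompl E0) := (Module.flat_iff_of_isLocalization Ap p.primeCompl _).mpr inferInstance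
  have : Module.Flat A (LocalizedModule q.asIdeal.primeCompl E1) := flat_localized q.asIdeal.primeCompl E1
  have : Module.Flat Ap (LocalizedModule q.asIdeal.primeCompl E1) := (Module.flat_iff_of_isLocalization Ap p.primeCompl _).mpr inferInstance
  have hI : (maximalIdeal Ap).map (algebraMap Ap Bq) = p.map (algebraMap A Bq) := by
    rw [← Localization.AtPrime.map_eq_maximalIdeal, Ideal.map_map, ← IsScalarTower.algebraMap_eq]
  let Jq := J.map (algebraMap B Bq)
  let f' := LocalizedModule.map q.asIdeal.primeCompl f
  let u' := LocalizedModule.map q.asIdeal.primeCompl u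
  let v' := LocalizedModule.map q.asIdeal.primeCompl v
  have x1 : Function.Injective f' := LocalizedModule.map_injective _ f hf
  have x2 : Function.Exact f' u' := LocalizedModule.map_exact _ f u hfu
  have x3 : Function.Exact u' v' := LocalizedModule.map_exact _ u v huv
  have x4 : Function.Surjective v' := LocalizedModule.map_surjective _ v hv
  rw [idealDepth_fibLocMod_eq (A := A), ← hI] at h0 h1 ⊢
  constructor
  · intro hF
    have hGq : ∀ r : PrimeSpectrum Bq, ¬ Jq ≤ r.asIdeal →
        Module.Flat Ap (LocalizedModule r.asIdeal.primeCompl (LocalizedModule q.asIdeal.primeCompl G)) := by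
      intro r hr
      obtain ⟨e⟩ := exists_localized_localized q G r
      have : Module.Flat A (LocalizedModule (r.asIdeal.comap (algebraMap B Bq)).primeCompl G) :=
        hGU (PrimeSpectrum.comap (algebraMap B Bq) r) (fun h => hr (Ideal.map_le_iff_le_comap.mpr h))
      exact (Module.flat_iff_of_isLocalization Ap p.primeCompl _).mpr
        (Module.Flat.of_linearEquiv (e.restrictScalars A).symm)
    have := flat_coker_of_two_le Jq f' u' v' x1 x2 x3 x4 hGq h0 hF
    exact (Module.flat_iff_of_isLocalization Ap p.primeCompl _).mp this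
  · intro hG
    have : Module.Flat Ap (LocalizedModule q.asIdeal.primeCompl G) :=
      (Module.flat_iff_of_isLocalization Ap p.primeCompl _).mpr hG
    have h2 := two_le_quot_pow_of_flat Jq f' u' v' x1 x2 x3 x4 h0 h1 1
    rw [Basic.idealDepth_congr Jq (Submodule.quotEquivOfEq _ _ (by rw [pow_one]))] at h2
    exact h2

end

end Groth.Agent.Lib.QDepth
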