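import Groth.Agent.Lib.QDepth.FourTerm
import Groth.Agent.Lib.Depth.LocalCoh
import Groth.Agent.Lib.LocalCoh.TransformUniversal
import Groth.Agent.Lib.LocalCoh.Transfer
import Mathlib.RingTheory.Filtration

/-!
Vanishing of second local cohomology of the closed fibre forces flatness of a four term sequence.
-/

universe u

open LocCoh IsLocalRing Pointwise TensorProduct
open Groth.Agent.Lib.Depth

namespace Groth.Agent.Lib.QDepth

/-- A finite module supported in `V(J)` is `J`-power torsion. -/
theorem isPowerTorsion_of_support {R : Type u} [CommRing R] [IsNoetherianRing R] (J : Ideal R)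
    {M : Type u} [AddCommGroup M] [Module R M] [Module.Finite R M]
    (h : ∀ p ∈ Module.support R M, J ≤ p.asIdeal) : LocCoh.IsPowerTorsion J M := by
  obtain ⟨n, hn⟩ := Ideal.exists_pow_le_of_le_radical_of_fg
    (I := J) (J := Module.annihilator R M) (fun x hx => by
      rw [Ideal.radical_eq_sInf]
      refine Ideal.mem_sInf.mpr fun {p} hp => ?_
      exact h ⟨p, hp.2⟩ (by rw [Module.support_eq_zeroLocus]; exact hp.1) hx) (IsNoetherian.noetherian J)
  exact fun m => ⟨n, fun a ha => Module.mem_annihilator.mp (hn ha) m⟩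

variable {A B : Type u} [CommRing A] [CommRing B] [IsNoetherianRing A] [IsNoetherianRing B]
  [IsLocalRing A] [IsLocalRing B] [Algebra A B] [IsLocalHom (algebraMap A B)] (J : Ideal B)
  {F E0 E1 G : Type u} [AddCommGroup F] [Module B F] [Module A F] [IsScalarTower A B F]
  [Module.Finite B F]
  [AddCommGroup E0] [Module B E0] [Module A E0] [IsScalarTower A B E0] [Module.Finite B E0] [Module.Flat A E0]
  [AddCommGroup E1] [Module B E1] [Module A E1] [IsScalarTower A B E1] [Module.Finite B E1] [Module.Flat A E1]
  [AddCommGroup G] [Module B G] [Module A G] [IsScalarTower A B G] [Module.Finite B G]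
  (f : F →ₗ[B] E0) (u : E0 →ₗ[B] E1) (v : E1 →ₗ[B] G)
  (hf : Function.Injective f) (hfu : Function.Exact f u) (huv : Function.Exact u v) (hv : Function.Surjective v)
  (hGU : ∀ q : PrimeSpectrum B, ¬ J ≤ q.asIdeal → Module.Flat A (LocalizedModule q.asIdeal.primeCompl G))
  (h0 : 2 ≤ idealDepth J (E0 ⧸ ((maximalIdeal A).map (algebraMap A B) • (⊤ : Submodule B E0))))
  (h1 : 1 ≤ idealDepth J (E1 ⧸ ((maximalIdeal A).map (algebraMap A B) • (⊤ : Submodule B E1))))

variable (A) in
/-- kernel of `u ⊗ N`. -/
noncomputable abbrev kerTensor (N : Type u) [AddCommGroup N] [Module A N] : Submodule B (E0 ⊗[A] N) :=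
  LinearMap.ker (TensorProduct.AlgebraTensorModule.rTensor A N u : E0 ⊗[A] N →ₗ[B] E1 ⊗[A] N)

include hf hfu huv hv hGU h0 h1 in
/-- The inductive step. -/
theorem kerTensor_step {N' N V : Type u} [AddCommGroup N'] [Module A N'] [Module.Finite A N']
    [AddCommGroup N] [Module A N] [Module.Finite A N] [AddCommGroup V] [Module A V] [Module.Finite A V]
    (i : N' →ₗ[A] N) (p : N →ₗ[A] V) (hi : Function.Injective i) (hip : Function.Exact i p)
    (hp : Function.Surjective p) (n : ℕ) (hN : ∀ r ∈ maximalIdeal A ^ n, ∀ x : N, r • x = 0)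
    (hN' : 3 ≤ idealDepth J (kerTensor A u N')) :
    (∀ z ∈ kerTensor A u V, ∃ y ∈ kerTensor A u N,
      TensorProduct.AlgebraTensorModule.lTensor B E0 p y = z) ∧
    (3 ≤ idealDepth J (kerTensor A u V) → 3 ≤ idealDepth J (kerTensor A u N)) := by
  let i0 : E0 ⊗[A] N' →ₗ[B] E0 ⊗[A] N := TensorProduct.AlgebraTensorModule.lTensor B E0 i
  let p0 : E0 ⊗[A] N →ₗ[B] E0 ⊗[A] V := TensorProduct.AlgebraTensorModule.lTensor B E0 p
  let i1 : E1 ⊗[A] N' →ₗ[B] E1 ⊗[A] N := TensorProduct.AlgebraTensorModule.lTensor B E1 i
  let p1 : E1 ⊗[A] N →ₗ[B] E1 ⊗[A] V := TensorProduct.AlgebraTensorModule.lTensor B E1 p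
  have ci : ∀ z, TensorProduct.AlgebraTensorModule.rTensor A N u (i0 z) =
      i1 (TensorProduct.AlgebraTensorModule.rTensor A N' u z) := by
    intro z
    induction z using TensorProduct.induction_on with
    | zero => simp
    | add a b ha hb => simp only [map_add, ha, hb]
    | tmul a b => simp [i0, i1]
  have cp : ∀ z, TensorProduct.AlgebraTensorModule.rTensor A V u (p0 z) =
      p1 (TensorProduct.AlgebraTensorModule.rTensor A N u z) := by
    intro z
    induction z using TensorProduct.induction_on with
    | zero => simp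
    | add a b ha hb => simp only [map_add, ha, hb]
    | tmul a b => simp [p0, p1]
  have hV : ∀ r ∈ maximalIdeal A ^ n, ∀ x : V, r • x = 0 := fun r hr x => by
    obtain ⟨x, rfl⟩ := hp x
    rw [← map_smul, hN r hr x, map_zero]
  have := finite_tensor (A := A) (B := B) (M := E0) N'
  have := finite_tensor (A := A) (B := B) (M := E0) N
  have := finite_tensor (A := A) (B := B) (M := E0) V
  have := finite_tensor (A := A) (B := B) (M := E1) N
  have hPN : 2 ≤ idealDepth J (kerTensor A u N) :=
    two_le_of_exact J (kerTensor A u N).subtype _ Subtype.val_injective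
      (LinearMap.exact_subtype_ker_map _)
      (by simpa using le_idealDepth_tensor (M := E0) J (j := 2) (by simpa using h0) n N hN)
      (by simpa using le_idealDepth_tensor (M := E1) J (j := 1) (by simpa using h1) n N hN)
  have hPV : 1 ≤ idealDepth J (kerTensor A u V) :=
    one_le_of_injective J (kerTensor A u V).subtype Subtype.val_injective
      (by simpa using le_idealDepth_tensor (M := E0) J (j := 1) (le_trans (by simp) h0) n V hV)
  let a : kerTensor A u N' →ₗ[B] kerTensor A u N := i0.restrict fun z hz => by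
    rw [LinearMap.mem_ker] at hz ⊢
    rw [ci, hz, map_zero]
  let b : kerTensor A u N →ₗ[B] kerTensor A u V := p0.restrict fun z hz => by
    rw [LinearMap.mem_ker] at hz ⊢
    rw [cp, hz, map_zero]
  have ha : Function.Injective a := fun x y hxy => Subtype.ext
    (Module.Flat.lTensor_preserves_injective_linearMap (M := E0) i hi (congrArg Subtype.val hxy))
  have hab : Function.Exact a b := by
    intro z
    constructor
    · intro hz
      obtain ⟨w, hw⟩ := ((lTensor_exact E0 hip hp) z.1).mp (congrArg Subtype.val hz)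
      refine ⟨⟨w, ?_⟩, Subtype.ext hw⟩
      rw [LinearMap.mem_ker]
      apply Module.Flat.lTensor_preserves_injective_linearMap (M := E1) i hi
      show i1 _ = i1 0
      rw [← ci, map_zero, show i0 w = z.1 from hw]
      exact z.2
    · rintro ⟨w, rfl⟩
      exact Subtype.ext ((lTensor_exact E0 hip hp).apply_apply_eq_zero w.1)
  have hIm : 2 ≤ idealDepth J (LinearMap.range b) := by
    have hab' : Function.Exact a b.rangeRestrict := by
      rw [LinearMap.exact_iff, LinearMap.ker_rangeRestrict]
      exact LinearMap.exact_iff.mp hab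
    have := SES.le_idealDepth_right J (M₃ := ↥(LinearMap.range b)) (f := a) (g := b.rangeRestrict) (n := 2) ha
      hab' b.surjective_rangeRestrict
      (by simpa using hPN) (by simpa using hN')
    simpa using this
  have hQ : Subsingleton (kerTensor A u V ⧸ LinearMap.range b) := by
    refine subsingleton_of_one_le J (fun q hq => ?_) ?_
    · by_contra hc
      obtain ⟨z, hz⟩ := Module.mem_support_iff'.mp hq
      obtain ⟨z, rfl⟩ := Submodule.mkQ_surjective _ z
      obtain ⟨t, ht, w, hw⟩ := (local_exact f u v hf hfu huv hv q (hGU q hc) V).2.2 z.1 z.2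
      refine hz t ht ?_
      rw [← map_smul, Submodule.mkQ_apply, Submodule.Quotient.mk_eq_zero]
      obtain ⟨w', rfl⟩ := LinearMap.lTensor_surjective F hp w
      have hmem : ∀ x, TensorProduct.AlgebraTensorModule.rTensor A N u
          (TensorProduct.AlgebraTensorModule.rTensor A N f x) = 0 := by
        intro x
        induction x using TensorProduct.induction_on with
        | zero => simp
        | add a b ha hb => simp only [map_add, ha, hb, add_zero]
        | tmul a b => simp [hfu.apply_apply_eq_zero]
      refine ⟨⟨TensorProduct.AlgebraTensorModule.rTensor A N f w', hmem w'⟩, Subtype.ext ?_⟩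
      show p0 (TensorProduct.AlgebraTensorModule.rTensor A N f w') = t • z.1
      rw [← hw]
      clear hw
      induction w' using TensorProduct.induction_on with
      | zero => simp
      | add a b ha hb => simp only [map_add, ha, hb]
      | tmul a b => simp [p0]
    · have := SES.le_idealDepth_right J (f := (LinearMap.range b).subtype)
        (g := (LinearMap.range b).mkQ) (n := 1) Subtype.val_injective
        (LinearMap.exact_subtype_mkQ _) (Submodule.mkQ_surjective _)
        (by simpa using hPV) (by simpa using hIm)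
      simpa using this
  have hb : Function.Surjective b :=
    LinearMap.range_eq_top.mp (Submodule.Quotient.subsingleton_iff.mp hQ)
  refine ⟨fun z hz => ?_, fun h3 => ?_⟩
  · obtain ⟨y, hy⟩ := hb ⟨z, hz⟩
    exact ⟨y.1, y.2, congrArg Subtype.val hy⟩
  · simpa using SES.le_idealDepth_middle J (n := 3) ha hab hb (by simpa using hN') (by simpa using h3)

include hf hfu huv hv hGU h0 h1 in
theorem three_le_kerTensor (hk : 3 ≤ idealDepth J (kerTensor A u (ResidueField A))) (n : ℕ) :
    ∀ (N : Type u) [AddCommGroup N] [Module A N] [Module.Finite A N],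
      (∀ r ∈ maximalIdeal A ^ n, ∀ x : N, r • x = 0) → 3 ≤ idealDepth J (kerTensor A u N) := by
  induction n with
  | zero =>
    intro N _ _ _ hN
    have : Subsingleton N := ⟨fun a b => by
      have ha := hN 1 (by simp) a
      have hb := hN 1 (by simp) b
      rw [one_smul] at ha hb
      rw [ha, hb]⟩
    have : Subsingleton (kerTensor A u N) := ⟨fun a b => Subtype.ext (Subsingleton.elim a.1 b.1)⟩
    rw [Basic.idealDepth_subsingleton (M := kerTensor A u N)]
    exact le_top
  | succ n ih =>
    intro N _ _ _ hN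
    let N' : Submodule A N := maximalIdeal A • ⊤
    have hN' : ∀ r ∈ maximalIdeal A ^ n, ∀ x : N', r • x = 0 := by
      intro r hr x
      apply Subtype.ext
      have hx : x.1 ∈ maximalIdeal A • (⊤ : Submodule A N) := x.2
      show r • x.1 = 0
      refine Submodule.smul_induction_on hx (fun a ha m _ => ?_) (fun a b ha hb => by rw [smul_add, ha, hb, add_zero])
      rw [smul_smul]
      exact hN _ (pow_succ (maximalIdeal A) n ▸ Ideal.mul_mem_mul hr ha) m
    refine (kerTensor_step J f u v hf hfu huv hv hGU h0 h1 N'.subtype N'.mkQ N'.injective_subtype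
      (LinearMap.exact_subtype_mkQ N') N'.mkQ_surjective (n + 1) hN (ih N' hN')).2 ?_
    have hV : Module.IsTorsionBySet A (N ⧸ N') (maximalIdeal A : Set A) := by
      intro x r
      obtain ⟨x, rfl⟩ := Submodule.mkQ_surjective _ x
      rw [← map_smul, Submodule.mkQ_apply, Submodule.Quotient.mk_eq_zero]
      exact Submodule.smul_mem_smul r.2 Submodule.mem_top
    let _ : Module (ResidueField A) (N ⧸ N') := hV.module
    have : IsScalarTower A (ResidueField A) (N ⧸ N') := IsScalarTower.of_algebraMap_smul fun _ _ => rfl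
    have : Module.Finite (ResidueField A) (N ⧸ N') := Module.Finite.of_restrictScalars_finite A _ _
    let eV : (N ⧸ N') ≃ₗ[A] (Fin (Module.finrank (ResidueField A) (N ⧸ N')) → ResidueField A) :=
      ((Module.finBasis (ResidueField A) (N ⧸ N')).equivFun).restrictScalars A
    have hpi : ∀ d : ℕ, 3 ≤ idealDepth J (kerTensor A u (Fin d → ResidueField A)) := by
      intro d
      induction d with
      | zero =>
        have : Subsingleton (kerTensor A u (Fin 0 → ResidueField A)) :=
          ⟨fun a b => Subtype.ext (Subsingleton.elim a.1 b.1)⟩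
        rw [Basic.idealDepth_subsingleton (M := kerTensor A u (Fin 0 → ResidueField A))]
        exact le_top
      | succ d ihd =>
        let e : (Fin (d + 1) → ResidueField A) ≃ₗ[A] ResidueField A × (Fin d → ResidueField A) :=
          (Fin.consLinearEquiv A fun _ => ResidueField A).symm
        refine (kerTensor_step J f u v hf hfu huv hv hGU h0 h1
          (e.symm.toLinearMap ∘ₗ LinearMap.inl A _ _) (LinearMap.snd A _ _ ∘ₗ e.toLinearMap)
          (e.symm.injective.comp LinearMap.inl_injective) ?_
          ((LinearMap.snd_surjective (R := A) (M := ResidueField A) (M₂ := Fin d → ResidueField A)).comp e.surjective)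
          1 ?_ hk).2 ihd
        · intro y
          simp only [LinearMap.comp_apply, LinearEquiv.coe_coe, Set.mem_range, LinearMap.snd_apply,
            LinearEquiv.symm_apply_eq]
          exact ⟨fun hy => ⟨(e y).1, Prod.ext rfl hy.symm⟩, fun ⟨x, hx⟩ => by rw [← hx]; rfl⟩
        · intro r hr x
          rw [pow_one] at hr
          funext j
          show r • x j = 0
          rw [Algebra.smul_def, show algebraMap A (ResidueField A) r = 0 from Ideal.Quotient.eq_zero_iff_mem.mpr hr,
            zero_mul]
    have hV1 : ∀ r ∈ maximalIdeal A ^ 1, ∀ x : (N ⧸ N'), r • x = 0 := fun r hr x =>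
      @hV x ⟨r, pow_one (maximalIdeal A) ▸ hr⟩
    have hzero : 3 ≤ idealDepth J (kerTensor A u PUnit.{u + 1}) := by
      have : Subsingleton (kerTensor A u PUnit.{u + 1}) := ⟨fun a b => Subtype.ext (Subsingleton.elim a.1 b.1)⟩
      rw [Basic.idealDepth_subsingleton (M := kerTensor A u PUnit.{u + 1})]
      exact le_top
    exact (kerTensor_step J f u v hf hfu huv hv hGU h0 h1 (0 : PUnit.{u + 1} →ₗ[A] (N ⧸ N'))
      eV.toLinearMap (fun a b _ => Subsingleton.elim a b)
      (fun y => ⟨fun h => ⟨0, ((LinearEquiv.map_eq_zero_iff eV).mp h).symm⟩,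
        fun ⟨_, h⟩ => by rw [← h]; exact map_zero eV⟩) eV.surjective 1 hV1 hzero).2 (hpi _)

include hf hfu huv hv hGU h0 h1 in
theorem flat_of_lc_two
    (hH2 : Subsingleton (LocCoh.H J 2 (F ⧸ ((maximalIdeal A).map (algebraMap A B) • (⊤ : Submodule B F))))) :
    Module.Flat A G := by
  let k := ResidueField A
  have hk1 : ∀ r ∈ maximalIdeal A ^ 1, ∀ x : k, r • x = 0 := fun r hr x => by
    rw [pow_one] at hr
    rw [Algebra.smul_def, show algebraMap A k r = 0 from Ideal.Quotient.eq_zero_iff_mem.mpr hr, zero_mul]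
  have := finite_tensor (A := A) (B := B) (M := F) k
  have := finite_tensor (A := A) (B := B) (M := E0) k
  have := finite_tensor (A := A) (B := B) (M := E1) k
  let α := TensorProduct.AlgebraTensorModule.rTensor A k f
  have hP2 : 2 ≤ idealDepth J (kerTensor A u k) :=
    two_le_of_exact J (kerTensor A u k).subtype _ Subtype.val_injective
      (LinearMap.exact_subtype_ker_map _)
      (by simpa using le_idealDepth_tensor (M := E0) J (j := 2) (by simpa using h0) 1 k hk1)
      (by simpa using le_idealDepth_tensor (M := E1) J (j := 1) (by simpa using h1) 1 k hk1)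
  have hα0 : ∀ x, TensorProduct.AlgebraTensorModule.rTensor A k u (α x) = 0 := by
    intro x
    induction x using TensorProduct.induction_on with
    | zero => simp
    | add a b ha hb => simp only [map_add, ha, hb, add_zero]
    | tmul a b => simp [α, hfu.apply_apply_eq_zero]
  let α' : (F ⊗[A] k) →ₗ[B] kerTensor A u k := LinearMap.codRestrict _ α hα0
  have hk3 : 3 ≤ idealDepth J (kerTensor A u k) := by
    have hbij := LocalCoh.lc_map_bijective J (ModuleCat.ofHom α') (by
      intro z hz
      have ht : LocCoh.IsPowerTorsion J (LinearMap.ker α') := by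
        refine isPowerTorsion_of_support J fun q hq => ?_
        by_contra hc
        obtain ⟨y, hy⟩ := Module.mem_support_iff'.mp hq
        obtain ⟨t, ht, hty⟩ := (local_exact f u v hf hfu huv hv q (hGU q hc) k).2.1 y.1
          (congrArg Subtype.val y.2)
        exact hy t ht (Subtype.ext hty)
      obtain ⟨m, hm⟩ := ht ⟨z, hz⟩
      exact ⟨m, fun a ha => congrArg Subtype.val (hm a ha)⟩) (by
      refine isPowerTorsion_of_support J (M := kerTensor A u k ⧸ LinearMap.range α') fun q hq => ?_
      by_contra hc
      obtain ⟨z, hz⟩ := Module.mem_support_iff'.mp hq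
      obtain ⟨z, rfl⟩ := Submodule.mkQ_surjective _ z
      obtain ⟨t, ht, w, hw⟩ := (local_exact f u v hf hfu huv hv q (hGU q hc) k).2.2 z.1 z.2
      refine hz t ht ?_
      rw [← map_smul, Submodule.mkQ_apply, Submodule.Quotient.mk_eq_zero]
      exact ⟨w, Subtype.ext hw⟩) 0
    obtain ⟨eF⟩ := exists_fibre_equiv (A := A) (B := B) (M := F)
    have hFk : Subsingleton (LocCoh.H J 2 (F ⊗[A] k)) :=
      (LocalCoh.lcLinearEquiv J 2 eF).toEquiv.subsingleton
    have hP : Subsingleton (LocCoh.H J 2 (kerTensor A u k)) := hbij.2.subsingleton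
    rw [show (3 : ℕ∞) = ((3 : ℕ) : ℕ∞) by rfl, Depth.LocalCoh.le_idealDepth_iff_H J _ 3]
    intro i hi
    rcases Nat.lt_succ_iff_lt_or_eq.mp hi with h | rfl
    · exact (Depth.LocalCoh.le_idealDepth_iff_H J _ 2).mp (by simpa using hP2) i h
    · exact hP
  refine flat_coker_of_exact_fibre f u v hfu huv hv fun z hz => ?_
  -- Artin–Rees
  let mB := (maximalIdeal A).map (algebraMap A B)
  obtain ⟨c, hc⟩ := Ideal.exists_pow_inf_eq_pow_smul mB (LinearMap.range u)
  let N := A ⧸ maximalIdeal A ^ (c + 1)
  have hN : ∀ r ∈ maximalIdeal A ^ (c + 1), ∀ x : N, r • x = 0 := fun r hr x => by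
    obtain ⟨y, rfl⟩ := Ideal.Quotient.mk_surjective x
    rw [Algebra.smul_def, Ideal.Quotient.algebraMap_eq, ← map_mul, Ideal.Quotient.eq_zero_iff_mem]
    exact Ideal.mul_mem_right _ _ hr
  let π : N →ₗ[A] k := (Ideal.Quotient.factorₐ A (Ideal.pow_le_self (Nat.succ_ne_zero c))).toLinearMap
  have hπ : Function.Surjective π := Ideal.Quotient.factor_surjective (Ideal.pow_le_self (Nat.succ_ne_zero c))
  obtain ⟨y, hy, hyz⟩ := (kerTensor_step J f u v hf hfu huv hv hGU h0 h1 (LinearMap.ker π).subtype π
    Subtype.val_injective (LinearMap.exact_subtype_ker_map π) hπ (c + 1) hN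
    (three_le_kerTensor J f u v hf hfu huv hv hGU h0 h1 hk3 (c + 1) _
      (fun r hr x => Subtype.ext (hN r hr x.1)))).1 z hz
  have hsurj : ∀ w : E0 ⊗[A] N, ∃ e : E0, e ⊗ₜ[A] (1 : N) = w := by
    intro w
    induction w using TensorProduct.induction_on with
    | zero => exact ⟨0, TensorProduct.zero_tmul _ _⟩
    | add a b ha hb =>
      obtain ⟨a', rfl⟩ := ha
      obtain ⟨b', rfl⟩ := hb
      exact ⟨a' + b', TensorProduct.add_tmul a' b' 1⟩
    | tmul m x =>
      obtain ⟨r, rfl⟩ := Ideal.Quotient.mk_surjective x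
      refine ⟨r • m, ?_⟩
      rw [TensorProduct.smul_tmul, Algebra.smul_def, mul_one]
      rfl
  obtain ⟨e, rfl⟩ := hsurj y
  have hue : u e ∈ mB ^ (c + 1) • (⊤ : Submodule B E1) := by
    rw [← Ideal.map_pow, ← Submodule.restrictScalars_mem A, Ideal.smul_restrictScalars,
      Submodule.restrictScalars_top, ← Submodule.Quotient.mk_eq_zero]
    have h2 : (u e) ⊗ₜ[A] (1 : N) = (0 : E1 ⊗[A] N) := hy
    have h3 := congrArg (TensorProduct.tensorQuotEquivQuotSMul E1 (maximalIdeal A ^ (c + 1))) h2
    rw [map_zero, show (1 : N) = Ideal.Quotient.mk _ 1 from rfl,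
      TensorProduct.tensorQuotEquivQuotSMul_tmul_mk, one_smul] at h3
    exact h3
  have hmem : u e ∈ mB ^ (c + 1 - c) • (mB ^ c • (⊤ : Submodule B E1) ⊓ LinearMap.range u) := by
    rw [← hc (c + 1) (Nat.le_succ c)]
    exact ⟨hue, ⟨e, rfl⟩⟩
  have hmem2 : u e ∈ (mB • (⊤ : Submodule B E0)).map u := by
    rw [Submodule.map_smul'', Submodule.map_top]
    refine Submodule.smul_mono (le_of_eq ?_) inf_le_right hmem
    rw [show c + 1 - c = 1 by omega, pow_one]
  obtain ⟨w, hw, hwe⟩ := hmem2
  obtain ⟨x, hx⟩ := (hfu (e - w)).mp (by rw [map_sub, hwe, sub_self])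
  refine ⟨x ⊗ₜ[A] (1 : k), ?_⟩
  rw [← hyz]
  show f x ⊗ₜ[A] (1 : k) = e ⊗ₜ[A] π 1
  rw [hx, TensorProduct.sub_tmul, show π 1 = (1 : k) from map_one (Ideal.Quotient.factorₐ A (Ideal.pow_le_self (Nat.succ_ne_zero c))), sub_eq_self]
  -- `w ⊗ 1 = 0`
  refine Submodule.smul_induction_on hw (fun r hr m _ => ?_) (fun a b ha hb => by rw [TensorProduct.add_tmul, ha, hb, add_zero])
  induction hr using Submodule.span_induction generalizing m with
  | zero => rw [zero_smul, TensorProduct.zero_tmul]
  | add a b _ _ ha hb =>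
    rw [add_smul, TensorProduct.add_tmul, ha m trivial, hb m trivial, add_zero]
  | smul a b _ hb =>
    rw [smul_eq_mul, mul_comm, mul_smul]
    exact hb (a • m) trivial
  | mem b hb =>
    obtain ⟨r, hr, rfl⟩ := hb
    rw [algebraMap_smul, TensorProduct.smul_tmul, Algebra.smul_def, mul_one,
      show algebraMap A k r = 0 from Ideal.Quotient.eq_zero_iff_mem.mpr hr, TensorProduct.tmul_zero]

end Groth.Agent.Lib.QDepth
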