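import Groth.Agent.Lib.QDepth.DoubleDual
import Groth.Agent.Lib.QDepth.FourTerm
import Mathlib.Algebra.Module.LocalizedModule.Exact

/-!
Kernels of base changes of four term sequences.
-/

universe u v

open LocCoh IsLocalRing Pointwise TensorProduct
open Groth.Agent.Lib.Depth

namespace Groth.Agent.Lib.QDepth

section TwoLemmas

variable {R : Type u} [CommRing R] {J : Ideal R}

theorem Two.retract {M N : Type v} [AddCommGroup M] [Module R M] [AddCommGroup N] [Module R N]
    (h : Two J N) (i : M →ₗ[R] N) (p : N →ₗ[R] M) (hpi : ∀ m, p (i m) = m) : Two J M where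
  zero := fun m hm => by
    rw [← hpi m, h.zero (i m) (fun a ha => by rw [← map_smul, hm a ha, map_zero]), map_zero]
  ext := fun φ => by
    obtain ⟨n, hn⟩ := h.ext (i ∘ₗ φ)
    refine ⟨p n, fun a => ?_⟩
    rw [← map_smul, ← hn a, LinearMap.comp_apply, hpi]

theorem Two.ker {M N : Type v} [AddCommGroup M] [Module R M] [AddCommGroup N] [Module R N]
    (hM : Two J M) (hN : ∀ y : N, (∀ a ∈ J, a • y = 0) → y = 0) (u : M →ₗ[R] N) :
    Two J (LinearMap.ker u) where
  zero := fun m hm => Subtype.ext (hM.zero m.1 fun a ha => congrArg Subtype.val (hm a ha))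
  ext := fun φ => by
    obtain ⟨m, hm⟩ := hM.ext ((LinearMap.ker u).subtype ∘ₗ φ)
    have hum : u m = 0 := hN _ fun a ha => by
      rw [← map_smul, ← hm ⟨a, ha⟩]
      exact (φ ⟨a, ha⟩).2
    exact ⟨⟨m, hum⟩, fun a => Subtype.ext (hm a)⟩

/-- A finite projective module over a ring with property `Two` has it. -/
theorem Two.of_projective (h : Two J R) (P : Type u) [AddCommGroup P] [Module R P] [Module.Finite R P]
    [Module.Projective R P] : Two J P :=
  (h.hom (Module.Dual R P)).of_equiv (Module.evalEquiv R P).symm

/-- A finite projective module tensored with a module with property `Two` has it. -/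
theorem Two.tensor_projective {X : Type u} [AddCommGroup X] [Module R X] (h : Two J X)
    (P : Type u) [AddCommGroup P] [Module R P] [Module.Finite R P] [Module.Projective R P] :
    Two J (X ⊗[R] P) := by
  obtain ⟨n, π, hπ⟩ := Module.Finite.exists_fin' R P
  obtain ⟨s, hs⟩ := Module.projective_lifting_property π LinearMap.id hπ
  refine ((h.hom (Fin n → R)).of_equiv ((LinearEquiv.piRing R X (Fin n) R) ≪≫ₗ
    (TensorProduct.piScalarRight R R X (Fin n)).symm)).retract (s.lTensor X) (π.lTensor X) fun m => ?_
  rw [← LinearMap.comp_apply, ← LinearMap.lTensor_comp, hs, LinearMap.lTensor_id, LinearMap.id_apply]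

end TwoLemmas

section Split

variable {B : Type u} [CommRing B] [IsNoetherianRing B] {E0 E1 G : Type u}
  [AddCommGroup E0] [Module B E0] [AddCommGroup E1] [Module B E1] [Module.Finite B E1]
  [Module.Projective B E1] [AddCommGroup G] [Module B G] [Module.Finite B G]

/-- A map with cokernel free off `V(J)` has a generalised inverse up to a power of `J`. -/
theorem exists_genInverse (J : Ideal B) (u : E0 →ₗ[B] E1) (v : E1 →ₗ[B] G)
    (huv : Function.Exact u v) (hv : Function.Surjective v)
    (hGU : ∀ q : PrimeSpectrum B, ¬ J ≤ q.asIdeal →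
      Module.Free (Localization.AtPrime q.asIdeal) (LocalizedModule q.asIdeal.primeCompl G)) :
    ∃ N : ℕ, N ≠ 0 ∧ ∀ c ∈ J ^ N, ∃ w : E1 →ₗ[B] E0, u ∘ₗ w ∘ₗ u = c • u := by
  obtain ⟨n, p, hp⟩ := Module.Finite.exists_fin' B E1
  let 𝔞 : Ideal B :=
    { carrier := {c | ∃ w : E1 →ₗ[B] E0, u ∘ₗ w ∘ₗ u = c • u}
      add_mem' := fun {a b} ⟨s, hs⟩ ⟨t, ht⟩ =>
        ⟨s + t, by rw [LinearMap.add_comp, LinearMap.comp_add, hs, ht, add_smul]⟩
      zero_mem' := ⟨0, by simp⟩
      smul_mem' := fun c a ⟨s, hs⟩ =>
        ⟨c • s, by rw [LinearMap.smul_comp, LinearMap.comp_smul, hs, smul_smul]; rfl⟩ }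
  have hrad : J ≤ 𝔞.radical := by
    intro x hx
    rw [Ideal.radical_eq_sInf]
    refine Ideal.mem_sInf.mpr fun {q} hq => ?_
    by_contra hxq
    have hq2 := hq.2
    have := hGU ⟨q, hq2⟩ (fun h => hxq (h hx))
    obtain ⟨s, ψ, hψ⟩ := exists_split q (v ∘ₗ p) (hv.comp hp)
    let ρ : E1 →ₗ[B] LinearMap.range u :=
      LinearMap.codRestrict _ (s.1 • LinearMap.id - (p ∘ₗ ψ) ∘ₗ v) (fun y => (huv _).mp (by
        rw [LinearMap.sub_apply, map_sub, LinearMap.smul_apply, map_smul, LinearMap.comp_apply,
          LinearMap.comp_apply, show v (p (ψ (v y))) = s.1 • v y from LinearMap.congr_fun hψ (v y)]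
        simp))
    obtain ⟨w, hw⟩ := Module.projective_lifting_property u.rangeRestrict ρ u.surjective_rangeRestrict
    refine s.2 (hq.1 ⟨w, LinearMap.ext fun y => ?_⟩)
    have h1 := congrArg Subtype.val (LinearMap.congr_fun hw (u y))
    rw [show (ρ (u y)).1 = s.1 • u y - p (ψ (v (u y))) from rfl, huv.apply_apply_eq_zero, map_zero,
      map_zero, sub_zero] at h1
    exact h1
  obtain ⟨N, hN⟩ := Ideal.exists_pow_le_of_le_radical_of_fg hrad (IsNoetherian.noetherian J)
  exact ⟨N + 1, Nat.succ_ne_zero N, fun c hc => hN (Ideal.pow_le_pow_right (Nat.le_succ N) hc)⟩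

/-- Evaluation on the kernel is invertible up to a power of `J` after base change. -/
theorem invUpTo_eval_ker [Module.Finite B E0] [Module.Projective B E0] (J : Ideal B)
    (u : E0 →ₗ[B] E1) (N : ℕ) (h : ∀ c ∈ J ^ N, ∃ w : E1 →ₗ[B] E0, u ∘ₗ w ∘ₗ u = c • u)
    (B' : Type u) [CommRing B'] [Algebra B B'] :
    InvUpTo (X := ↥(LinearMap.ker (u.baseChange B')))
      (Y := Module.Dual B' (Module.Dual B' ↥(LinearMap.ker (u.baseChange B'))))
      ((J.map (algebraMap B B')) ^ N) (Module.Dual.eval B' (LinearMap.ker (u.baseChange B'))) := by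
  rw [← Ideal.map_pow, Ideal.map]
  refine invUpTo_span _ ?_
  rintro _ ⟨c, hc, rfl⟩
  obtain ⟨w, hw⟩ := h c hc
  let u' := u.baseChange B'
  let w' := w.baseChange B'
  have hw' : u' ∘ₗ w' ∘ₗ u' = algebraMap B B' c • u' := by
    rw [← LinearMap.baseChange_comp, ← LinearMap.baseChange_comp, hw, LinearMap.baseChange_smul,
      algebraMap_smul]
  let π : B' ⊗[B] E0 →ₗ[B'] LinearMap.ker u' :=
    LinearMap.codRestrict _ (algebraMap B B' c • LinearMap.id - w' ∘ₗ u') (fun x => by
      rw [LinearMap.mem_ker, LinearMap.sub_apply, map_sub, LinearMap.smul_apply, map_smul,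
        LinearMap.id_apply, LinearMap.comp_apply,
        show u' (w' (u' x)) = algebraMap B B' c • u' x from LinearMap.congr_fun hw' x, sub_self])
  refine eval_inv_of_factor (F := ↥(LinearMap.ker u')) (P := B' ⊗[B] E0) π (LinearMap.ker u').subtype _ (LinearMap.ext fun z => Subtype.ext ?_)
  show algebraMap B B' c • z.1 - w' (u' z.1) = algebraMap B B' c • z.1
  rw [z.2, map_zero, sub_zero]

end Split

section AtPrime

variable {A B : Type u} [CommRing A] [CommRing B] [IsNoetherianRing A] [IsNoetherianRing B]
  [Algebra A B] (J : Ideal B) (q : PrimeSpectrum B)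

omit [IsNoetherianRing A] [IsNoetherianRing B] in
/-- Depth of the fibre stalk, computed over the local ring. -/
theorem idealDepth_fibLocMod_eq (M : Type u) [AddCommGroup M] [Module B M] :
    idealDepth (J.map (algebraMap B (EGA4.FibLocRing A B q.asIdeal))) (EGA4.FibLocMod A B q.asIdeal M) =
      idealDepth (J.map (algebraMap B (Localization.AtPrime q.asIdeal)))
        (LocalizedModule q.asIdeal.primeCompl M ⧸
          ((q.asIdeal.comap (algebraMap A B)).map (algebraMap A (Localization.AtPrime q.asIdeal)) •
            (⊤ : Submodule (Localization.AtPrime q.asIdeal) (LocalizedModule q.asIdeal.primeCompl M)))) := by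
  rw [show J.map (algebraMap B (EGA4.FibLocRing A B q.asIdeal)) =
      (J.map (algebraMap B (Localization.AtPrime q.asIdeal))).map
        (algebraMap (Localization.AtPrime q.asIdeal) (EGA4.FibLocRing A B q.asIdeal)) by
    rw [Ideal.map_map, ← IsScalarTower.algebraMap_eq]]
  exact (Basic.idealDepth_eq_map_of_surjective Ideal.Quotient.mk_surjective _).symm

omit [IsNoetherianRing A] in
/-- Ideal depth can only grow under localisation. -/
theorem idealDepth_le_localized (M : Type u) [AddCommGroup M] [Module B M] [Module.Finite B M] :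
    idealDepth J M ≤ idealDepth (J.map (algebraMap B (Localization.AtPrime q.asIdeal)))
      (LocalizedModule q.asIdeal.primeCompl M) := by
  refine ENat.forall_natCast_le_iff_le.mp fun n hn => ?_
  rw [Basic.le_idealDepth_iff] at hn ⊢
  rcases hn with h | ⟨rs, hl, hmem, hreg⟩
  · refine Or.inl ((Basic.smul_top_eq_top_iff_map (S := Localization.AtPrime q.asIdeal) J).mp ?_)
    rw [eq_top_iff]
    intro z _
    induction z using LocalizedModule.induction_on with
    | _ m s =>
      have hm : m ∈ J • (⊤ : Submodule B M) := by rw [h]; trivial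
      refine Submodule.smul_induction_on (p := fun m => LocalizedModule.mk m s ∈
        J • (⊤ : Submodule B (LocalizedModule q.asIdeal.primeCompl M))) hm
        (fun r hr x _ => ?_) (fun x y hx hy => ?_)
      · rw [← LocalizedModule.smul'_mk]
        exact Submodule.smul_mem_smul hr trivial
      · have : LocalizedModule.mk (x + y) s = LocalizedModule.mk x s + LocalizedModule.mk y s := by
          rw [LocalizedModule.mk_add_mk, ← smul_add, LocalizedModule.mk_cancel_common_left]
        rw [this]
        exact add_mem hx hy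
  · refine Or.inr ⟨rs.map (algebraMap B _), by simpa using hl, ?_,
      hreg.of_isLocalizedModule (Localization.AtPrime q.asIdeal) q.asIdeal.primeCompl
        (LocalizedModule.mkLinearMap q.asIdeal.primeCompl M)⟩
    simp only [List.mem_map, forall_exists_index, and_imp, forall_apply_eq_imp_iff₂]
    exact fun r hr => Ideal.mem_map_of_mem _ (hmem r hr)

end AtPrime

section Fibres

variable {A B A' B' : Type u} [CommRing A] [CommRing B] [CommRing A'] [CommRing B']
  [IsNoetherianRing A] [IsNoetherianRing B] [IsNoetherianRing A'] [IsNoetherianRing B']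
  [Algebra A B] [Algebra A A'] [Algebra B B'] [Algebra A' B'] [Algebra A B']
  [IsScalarTower A B B'] [IsScalarTower A A' B'] [Algebra.IsPushout A B A' B'] [Module.Flat A B]

/-- `B'/I B'` has property `Two` when the fibres of `A → B` have depth two along `J`. -/
theorem two_quot (J : Ideal B)
    (h : ∀ q : PrimeSpectrum B, J ≤ q.asIdeal →
      2 ≤ LocCoh.idealDepth (q.asIdeal.map (algebraMap B (EGA4.FibLocRing A B q.asIdeal)))
        (EGA4.FibLocRing A B q.asIdeal))
    (I : Ideal A') : Two (J.map (algebraMap B B')) (B' ⧸ I.map (algebraMap A' B')) := by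
  let A'' := A' ⧸ I
  let B'' := B' ⧸ I.map (algebraMap A' B')
  have h' : ∀ q : PrimeSpectrum B, J ≤ q.asIdeal →
      2 ≤ LocCoh.idealDepth (q.asIdeal.map (algebraMap B (EGA4.FibLocRing A B q.asIdeal)))
        (EGA4.FibLocMod A B q.asIdeal B) := fun q hq => by
    rw [Basic.idealDepth_congr _ (fibLocRingEquiv A B q.asIdeal)]
    exact h q hq
  -- `B ⊗[A] A'/I ≅ B'/I B'`
  let e : B ⊗[A] A' ≃ₗ[B] B' := (Algebra.IsPushout.out (R := A) (S := B) (R' := A') (S' := B')).equiv
  let q : A' →ₗ[A] A'' := (Ideal.Quotient.mkₐ A I).toLinearMap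
  let i : I →ₗ[A] A' := I.subtype.restrictScalars A
  let P : B ⊗[A] A' →ₗ[B] B ⊗[A] A'' := TensorProduct.AlgebraTensorModule.lTensor B B q
  have hqs : Function.Surjective q := Ideal.Quotient.mk_surjective
  have hP : Function.Surjective P := LinearMap.lTensor_surjective B hqs
  have hex : Function.Exact i q := fun y => by
    show Ideal.Quotient.mk I y = 0 ↔ _
    rw [Ideal.Quotient.eq_zero_iff_mem]
    exact ⟨fun hy => ⟨⟨y, hy⟩, rfl⟩, fun ⟨x, hx⟩ => hx ▸ x.2⟩
  have hK : LinearMap.ker P = ((I.map (algebraMap A' B')).restrictScalars B).comap e.toLinearMap := by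
    apply le_antisymm
    · intro z hz
      obtain ⟨w, rfl⟩ := ((lTensor_exact B hex hqs) z).mp hz
      clear hz
      induction w using TensorProduct.induction_on with
      | zero => simp
      | add a b ha hb => rw [map_add]; exact add_mem ha hb
      | tmul b a =>
        show e (b ⊗ₜ[A] (a.1 : A')) ∈ I.map (algebraMap A' B')
        rw [IsBaseChange.equiv_tmul]
        exact Submodule.smul_of_tower_mem (I.map (algebraMap A' B')) b (Ideal.mem_map_of_mem _ a.2)
    · intro z hz
      have hz' : e z ∈ I.map (algebraMap A' B') := hz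
      rw [show z = e.symm (e z) from (e.symm_apply_apply z).symm]
      generalize e z = y at hz'
      induction hz' using Submodule.span_induction with
      | zero => rw [map_zero]; exact zero_mem _
      | add a b _ _ ha hb => rw [map_add]; exact add_mem ha hb
      | smul c x _ hx =>
        obtain ⟨w, rfl⟩ := e.surjective c
        clear hz
        induction w using TensorProduct.induction_on with
        | zero => simp
        | add a b ha hb => rw [map_add, add_smul, map_add]; exact add_mem ha hb
        | tmul b a =>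
          rw [IsBaseChange.equiv_tmul, smul_assoc, map_smul]
          refine Submodule.smul_mem _ b ?_
          -- multiplication by `a` on the right factor
          let m : A' →ₗ[A] A' := LinearMap.mulLeft A a
          have hcomm : ∀ t : B ⊗[A] A', e (TensorProduct.AlgebraTensorModule.lTensor B B m t) =
              algebraMap A' B' a * e t := by
            intro t
            induction t using TensorProduct.induction_on with
            | zero => simp
            | add a b ha hb => simp only [map_add, ha, hb, mul_add]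
            | tmul b c =>
              simp only [m, TensorProduct.AlgebraTensorModule.lTensor_tmul, LinearMap.mulLeft_apply, e,
                IsBaseChange.equiv_tmul]
              show b • algebraMap A' B' (a * c) = algebraMap A' B' a * b • algebraMap A' B' c
              rw [map_mul, mul_smul_comm]
          have h1 : e.symm (algebraMap A' B' a * x) =
              TensorProduct.AlgebraTensorModule.lTensor B B m (e.symm x) := by
            rw [LinearEquiv.symm_apply_eq, hcomm, e.apply_symm_apply]
          show e.symm (algebraMap A' B' a • x) ∈ LinearMap.ker P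
          rw [smul_eq_mul, h1, LinearMap.mem_ker]
          have hx0 : P (e.symm x) = 0 := hx
          obtain ⟨w, hw⟩ := ((lTensor_exact B hex hqs) (e.symm x)).mp hx0
          rw [← hw]
          clear hw
          induction w using TensorProduct.induction_on with
          | zero => simp
          | add a b ha hb => simp only [map_add, ha, hb, add_zero]
          | tmul b c =>
            show b ⊗ₜ[A] q (a * c.1) = 0
            rw [show q (a * c.1) = 0 from Ideal.Quotient.eq_zero_iff_mem.mpr (I.mul_mem_left a c.2),
              TensorProduct.tmul_zero]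
      | mem y hy =>
        obtain ⟨a, ha, rfl⟩ := hy
        rw [LinearMap.mem_ker, show e.symm (algebraMap A' B' a) = (1 : B) ⊗ₜ[A] a by
          rw [LinearEquiv.symm_apply_eq, IsBaseChange.equiv_tmul, one_smul]; rfl]
        show (1 : B) ⊗ₜ[A] q a = 0
        rw [show q a = 0 from Ideal.Quotient.eq_zero_iff_mem.mpr ha, TensorProduct.tmul_zero]
  let π : B ⊗[A] A' →ₗ[B] B'' :=
    (Submodule.mkQ (I.map (algebraMap A' B'))).restrictScalars B ∘ₗ e.toLinearMap
  have hπ : Function.Surjective π := (Submodule.mkQ_surjective _).comp e.surjective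
  have hker : LinearMap.ker P = LinearMap.ker π := by
    rw [hK]
    ext z
    exact (Submodule.Quotient.mk_eq_zero (p := I.map (algebraMap A' B')) (x := e z)).symm
  have h2 := (two_tensor J h' A'').of_equiv
    ((P.quotKerEquivOfSurjective hP).symm ≪≫ₗ Submodule.quotEquivOfEq _ _ hker ≪≫ₗ
      π.quotKerEquivOfSurjective hπ)
  refine ⟨fun z hz => h2.zero z fun a ha => ?_, fun φ => ?_⟩
  · rw [← algebraMap_smul B' a z]
    exact hz _ (Ideal.mem_map_of_mem _ ha)
  · let ψ : J →ₗ[B] B'' :=
      { toFun := fun a => φ ⟨algebraMap B B' a.1, Ideal.mem_map_of_mem _ a.2⟩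
        map_add' := fun a b => by
          rw [← map_add]; congr 1; exact Subtype.ext (map_add _ _ _)
        map_smul' := fun c a => by
          rw [RingHom.id_apply, ← algebraMap_smul B' c (φ _), ← map_smul]
          congr 1
          exact Subtype.ext (map_mul (algebraMap B B') c a.1) }
    obtain ⟨m, hm⟩ := h2.ext ψ
    refine ⟨m, ?_⟩
    rintro ⟨a, ha⟩
    induction ha using Submodule.span_induction with
    | mem a ha =>
      obtain ⟨b, hb, rfl⟩ := ha
      exact (hm ⟨b, hb⟩).trans (algebraMap_smul B' b m).symm
    | zero => exact (map_zero φ).trans (zero_smul B' m).symm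
    | add a b hA hB ha hb =>
      rw [show (⟨a + b, _⟩ : J.map (algebraMap B B')) = ⟨a, hA⟩ + ⟨b, hB⟩ from rfl, map_add, ha, hb,
        ← add_smul]
      rfl
    | smul c a hA ha =>
      rw [show (⟨c • a, _⟩ : J.map (algebraMap B B')) = c • ⟨a, hA⟩ from rfl, map_smul, ha, ← smul_assoc]
      rfl

/-- The fibre stalks of a projective module of the base change have depth two. -/
theorem two_le_fibLocMod_projective (J : Ideal B)
    (h : ∀ q : PrimeSpectrum B, J ≤ q.asIdeal →
      2 ≤ LocCoh.idealDepth (q.asIdeal.map (algebraMap B (EGA4.FibLocRing A B q.asIdeal)))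
        (EGA4.FibLocRing A B q.asIdeal))
    (P : Type u) [AddCommGroup P] [Module B' P] [Module.Finite B' P] [Module.Projective B' P]
    (q' : PrimeSpectrum B') :
    2 ≤ idealDepth ((J.map (algebraMap B B')).map (algebraMap B' (EGA4.FibLocRing A' B' q'.asIdeal)))
      (EGA4.FibLocMod A' B' q'.asIdeal P) := by
  rw [idealDepth_fibLocMod_eq (A := A')]
  let p' := q'.asIdeal.comap (algebraMap A' B')
  let I := p'.map (algebraMap A' B')
  let Bq := Localization.AtPrime q'.asIdeal
  have hT : Two (J.map (algebraMap B B')) (P ⧸ (I • (⊤ : Submodule B' P))) :=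
    ((two_quot (A := A) J h p').tensor_projective P).of_equiv
      (TensorProduct.quotTensorEquivQuotSMul P I)
  refine le_trans (two_le_of_two _ hT) (le_trans (idealDepth_le_localized _ q' _) (le_of_eq ?_))
  let mk := LocalizedModule.mkLinearMap q'.asIdeal.primeCompl P
  let S := LocalizedModule q'.asIdeal.primeCompl P
  have hle : ((I • (⊤ : Submodule B' P)).localized' Bq q'.asIdeal.primeCompl mk) =
      p'.map (algebraMap A' Bq) • (⊤ : Submodule Bq S) := by
    rw [IsScalarTower.algebraMap_eq A' B' Bq, ← Ideal.map_map]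
    apply le_antisymm
    · rintro _ ⟨m, hm, s, rfl⟩
      have hmk : mk m ∈ I.map (algebraMap B' Bq) • (⊤ : Submodule Bq S) := by
        refine Submodule.smul_induction_on (p := fun m => mk m ∈ _) hm (fun r hr x _ => ?_)
          (fun x y hx hy => by rw [map_add]; exact add_mem hx hy)
        rw [map_smul, ← algebraMap_smul Bq r (mk x)]
        exact Submodule.smul_mem_smul (Ideal.mem_map_of_mem _ hr) trivial
      rw [show IsLocalizedModule.mk' mk m s = IsLocalization.mk' Bq 1 s • mk m by
        rw [← IsLocalizedModule.mk'_one q'.asIdeal.primeCompl mk, IsLocalizedModule.mk'_smul_mk',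
          one_smul, mul_one]]
      exact Submodule.smul_mem _ _ hmk
    · refine Submodule.smul_le.mpr fun r hr z _ => ?_
      induction hr using Submodule.span_induction with
      | mem r hr =>
        obtain ⟨r, hr, rfl⟩ := hr
        obtain ⟨⟨m, s⟩, rfl⟩ := IsLocalizedModule.mk'_surjective q'.asIdeal.primeCompl mk z
        rw [algebraMap_smul, Function.uncurry_apply_pair, ← IsLocalizedModule.mk'_smul]
        exact ⟨r • m, Submodule.smul_mem_smul hr trivial, s, rfl⟩
      | zero => rw [zero_smul]; exact zero_mem _
      | add a b _ _ ha hb => rw [add_smul]; exact add_mem ha hb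
      | smul c a _ ha => rw [smul_eq_mul, mul_smul]; exact Submodule.smul_mem _ c ha
  let g := (I • (⊤ : Submodule B' P)).toLocalizedQuotient' Bq q'.asIdeal.primeCompl mk
  let e := (IsLocalizedModule.linearEquiv q'.asIdeal.primeCompl
    (LocalizedModule.mkLinearMap q'.asIdeal.primeCompl (P ⧸ (I • (⊤ : Submodule B' P)))) g).extendScalarsOfIsLocalization
      q'.asIdeal.primeCompl Bq
  exact Basic.idealDepth_congr _ (e ≪≫ₗ Submodule.quotEquivOfEq _ _ hle)

end Fibres

end Groth.Agent.Lib.QDepth
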