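import Groth.Agent.Lib.QDepth.Local
import Mathlib.Algebra.Module.FinitePresentation
import Mathlib.RingTheory.Support

/-!
Reflexivity of finite modules checked off a closed set of large depth.
-/

universe u v

open LocCoh IsLocalRing

namespace Groth.Agent.Lib.QDepth

variable {R : Type u} [CommRing R] [IsNoetherianRing R]
  {G : Type u} [AddCommGroup G] [Module R G] [Module.Finite R G]

instance finite_dual : Module.Finite R (Module.Dual R G) := by
  obtain ⟨n, π, hπ⟩ := Module.Finite.exists_fin' R G
  exact Module.Finite.of_injective (LinearMap.lcomp R R π)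
    (LinearMap.lcomp_injective_of_surjective π hπ)

/-- If `G_p` is reflexive then the evaluation map of `G` is bijective at `p`. -/
theorem eval_bijective_at (p : Ideal R) [p.IsPrime]
    (h : Module.IsReflexive (Localization.AtPrime p) (LocalizedModule p.primeCompl G)) :
    (∀ m : G, Module.Dual.eval R G m = 0 → ∃ r ∉ p, r • m = 0) ∧
    (∀ Φ : Module.Dual R (Module.Dual R G), ∃ r ∉ p, ∃ g : G, Module.Dual.eval R G g = r • Φ) := by
  have hfp : Module.FinitePresentation R G := Module.finitePresentation_of_finite R G
  have hfp' : Module.FinitePresentation R (Module.Dual R G) := Module.finitePresentation_of_finite R _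
  let ι : R →ₗ[R] Localization.AtPrime p := Algebra.linearMap R _
  let mk := LocalizedModule.mkLinearMap p.primeCompl G
  let f : Module.Dual R G →ₗ[R] Module.Dual (Localization.AtPrime p) (LocalizedModule p.primeCompl G) :=
    IsLocalizedModule.mapExtendScalars p.primeCompl mk ι (Localization.AtPrime p)
  have hf : IsLocalizedModule p.primeCompl f :=
    Module.FinitePresentation.isLocalizedModule_mapExtendScalars _ _ _ _
  have hfa : ∀ (φ : Module.Dual R G) (m : G), f φ (mk m) = algebraMap R _ (φ m) := fun φ m => by
    simp only [f, mk, ι]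
    exact IsLocalizedModule.map_apply p.primeCompl (LocalizedModule.mkLinearMap p.primeCompl G)
      (Algebra.linearMap R (Localization.AtPrime p)) φ m
  constructor
  · intro m hm
    have h0 : mk m = 0 := by
      refine (Module.bijective_dual_eval (Localization.AtPrime p)
        (LocalizedModule p.primeCompl G)).injective ?_
      rw [map_zero]
      ext ψ
      obtain ⟨⟨φ, s⟩, hs⟩ := IsLocalizedModule.surj p.primeCompl f ψ
      have h1 : f φ (mk m) = 0 := by
        rw [hfa, show φ m = 0 from LinearMap.congr_fun hm φ, map_zero]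
      rw [← hs, LinearMap.smul_apply] at h1
      simpa using ((IsLocalization.map_units (Localization.AtPrime p) s).smul_eq_zero).mp
        (show algebraMap R (Localization.AtPrime p) s.1 • ψ (mk m) = 0 by
          rw [algebraMap_smul]; exact h1)
    obtain ⟨c, hc⟩ := (IsLocalizedModule.eq_zero_iff p.primeCompl mk).mp h0
    exact ⟨c.1, c.2, hc⟩
  · intro Φ
    let Φp : Module.Dual (Localization.AtPrime p)
        (Module.Dual (Localization.AtPrime p) (LocalizedModule p.primeCompl G)) :=
      IsLocalizedModule.mapExtendScalars p.primeCompl f ι (Localization.AtPrime p) Φ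
    have hΦ : ∀ φ, Φp (f φ) = algebraMap R _ (Φ φ) := fun φ => by simp [Φp, ι]
    obtain ⟨x, hx⟩ := (Module.bijective_dual_eval (Localization.AtPrime p)
        (LocalizedModule p.primeCompl G)).surjective Φp
    obtain ⟨⟨g, s⟩, hs⟩ := IsLocalizedModule.surj p.primeCompl mk x
    have key : ι ∘ₗ Module.Dual.eval R G g = ι ∘ₗ (s.1 • Φ) := by
      ext φ
      simp only [LinearMap.comp_apply, Module.Dual.eval_apply, LinearMap.smul_apply, ι,
        Algebra.linearMap_apply]
      rw [← hfa, ← hs, Submonoid.smul_def, ← algebraMap_smul (Localization.AtPrime p) s.1 x,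
        map_smul, smul_eq_mul, smul_eq_mul, map_mul, ← hΦ, ← hx]
      rfl
    obtain ⟨t, ht⟩ := Module.Finite.exists_smul_of_comp_eq_of_isLocalizedModule p.primeCompl ι _ _ key
    refine ⟨t.1 * s.1, fun hts => ?_, t.1 • g, ?_⟩
    · rcases (‹p.IsPrime›).mem_or_mem hts with h' | h'
      · exact t.2 h'
      · exact s.2 h'
    · rw [map_smul, mul_smul]
      exact ht

/-- If `G` is reflexive off `V(I)`, `depth_I R ≥ 1` and `depth_I G ≥ 2`, then `G` is reflexive. -/
theorem isReflexive_of_depth (I : Ideal R) (hR : 1 ≤ idealDepth I R)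
    (hU : ∀ p : PrimeSpectrum R, ¬ I ≤ p.asIdeal →
      Module.IsReflexive (Localization.AtPrime p.asIdeal) (LocalizedModule p.asIdeal.primeCompl G))
    (hG : 2 ≤ idealDepth I G) : Module.IsReflexive R G := by
  let ev := Module.Dual.eval R G
  have hDD : 1 ≤ idealDepth I (Module.Dual R (Module.Dual R G)) := by
    obtain ⟨n, π, hπ⟩ := Module.Finite.exists_fin' R (Module.Dual R G)
    have h1 : (1 : ℕ∞) ≤ idealDepth I (Fin n → R) := by
      simpa using le_idealDepth_pi I (k := 1) (by simpa using hR) n
    exact one_le_of_injective I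
      ((LinearEquiv.piRing R R (Fin n) R).toLinearMap ∘ₗ π.dualMap)
      ((LinearEquiv.piRing R R (Fin n) R).injective.comp (LinearMap.dualMap_injective_of_surjective hπ)) h1
  have hG1 : 1 ≤ idealDepth I G := le_trans (by simp) hG
  have hker : LinearMap.ker ev = ⊥ := by
    have h1 := one_le_of_injective I (LinearMap.ker ev).subtype Subtype.val_injective hG1
    have := subsingleton_of_one_le I (fun p hp => by
      by_contra hc
      rw [Module.mem_support_iff'] at hp
      obtain ⟨m, hm⟩ := hp
      obtain ⟨r, hr, hr0⟩ := (eval_bijective_at p.asIdeal (hU p hc)).1 m.1 m.2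
      exact hm r hr (Subtype.ext hr0)) h1
    rwa [← Submodule.subsingleton_iff_eq_bot]
  have hinj : Function.Injective ev := LinearMap.ker_eq_bot.mp hker
  have hC : Subsingleton (Module.Dual R (Module.Dual R G) ⧸ LinearMap.range ev) := by
    refine subsingleton_of_one_le I (fun p hp => ?_) ?_
    · by_contra hc
      rw [Module.mem_support_iff'] at hp
      obtain ⟨m, hm⟩ := hp
      obtain ⟨Φ, rfl⟩ := Submodule.mkQ_surjective _ m
      obtain ⟨r, hr, g, hg⟩ := (eval_bijective_at p.asIdeal (hU p hc)).2 Φ
      refine hm r hr ?_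
      rw [← map_smul, Submodule.mkQ_apply, Submodule.Quotient.mk_eq_zero]
      exact ⟨g, hg⟩
    · have := Groth.Agent.Lib.Depth.SES.le_idealDepth_right I (f := ev)
        (g := (LinearMap.range ev).mkQ) (n := 1) hinj
        (by rw [LinearMap.exact_iff, Submodule.ker_mkQ]) (Submodule.mkQ_surjective _)
        (by simpa using hDD) (by simpa using hG)
      simpa using this
  refine ⟨⟨hinj, ?_⟩⟩
  rw [← LinearMap.range_eq_top]
  exact Submodule.Quotient.subsingleton_iff.mp hC

end Groth.Agent.Lib.QDepth
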