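import Groth.Agent.Lib.QDepth.Two
import Groth.Agent.Lib.QDepth.FibreTensor
import Mathlib.RingTheory.IsTensorProduct

/-!
Depth two of base changes of flat modules with fibres of depth two.
-/

universe u

open LocCoh IsLocalRing Pointwise TensorProduct
open Groth.Agent.Lib.Depth

namespace Groth.Agent.Lib.QDepth

/-- Reducing modulo `x` and modulo `I` commute. -/
noncomputable def quotQuotSwap {B : Type u} [CommRing B] (x : B) (I : Ideal B) {M : Type u}
    [AddCommGroup M] [Module B M] :
    QuotSMulTop x (M ⧸ (I • (⊤ : Submodule B M))) ≃ₗ[B]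
      (QuotSMulTop x M ⧸ (I • (⊤ : Submodule B (QuotSMulTop x M)))) :=
  Submodule.quotEquivOfEq _ ((x • (⊤ : Submodule B M)).map (I • (⊤ : Submodule B M)).mkQ) (by
      rw [Submodule.map_pointwise_smul, Submodule.map_top, Submodule.range_mkQ]) ≪≫ₗ
    Submodule.quotientQuotientEquivQuotientSup _ _ ≪≫ₗ Submodule.quotEquivOfEq _ _ (sup_comm _ _) ≪≫ₗ
    (Submodule.quotientQuotientEquivQuotientSup _ _).symm ≪≫ₗ
    Submodule.quotEquivOfEq _ _ (Basic.smul_top_map I _ (Submodule.mkQ_surjective _))

section Local

variable {A B : Type u} [CommRing A] [CommRing B] [IsLocalRing A] [IsLocalRing B]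
  [IsNoetherianRing A] [IsNoetherianRing B] [Algebra A B] [IsLocalHom (algebraMap A B)]

/-- For flat `M` the depth of the closed fibre bounds the depth of `M ⊗ N`. -/
theorem le_idealDepth_tensor_of_fibre (J : Ideal B) (N : Type u) [AddCommGroup N] [Module A N]
    [Module.Finite A N] {n : ℕ} : ∀ (M : Type u) [AddCommGroup M] [Module A M] [Module B M]
      [IsScalarTower A B M] [Module.Finite B M] [Module.Flat A M],
      (n : ℕ∞) ≤ idealDepth J (M ⧸ ((maximalIdeal A).map (algebraMap A B) • (⊤ : Submodule B M))) →
      (n : ℕ∞) ≤ idealDepth J (M ⊗[A] N) := by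
  induction n with
  | zero => intro M _ _ _ _ _ _ _; simp
  | succ n ih =>
    intro M _ _ _ _ _ _ h
    have := finite_tensor (A := A) (B := B) (M := M) N
    by_cases hJ : J = ⊤
    · rw [Basic.idealDepth_of_smul_top_eq (M := M ⊗[A] N) (by rw [hJ, Submodule.top_smul])]; exact le_top
    rcases subsingleton_or_nontrivial M with hM | hM
    · have : Subsingleton (M ⊗[A] N) := by
        refine subsingleton_of_forall_eq 0 fun z => ?_
        induction z using TensorProduct.induction_on with
        | zero => rfl
        | add a b ha hb => rw [ha, hb, add_zero]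
        | tmul m x => rw [Subsingleton.elim m 0, TensorProduct.zero_tmul]
      rw [Basic.idealDepth_subsingleton (M := M ⊗[A] N)]; exact le_top
    let mB := (maximalIdeal A).map (algebraMap A B)
    let Q := M ⧸ (mB • (⊤ : Submodule B M))
    have hQ : J • (⊤ : Submodule B Q) ≠ ⊤ := by
      intro hc
      have hle : J ⊔ mB ≠ ⊤ := fun ht => Ideal.IsPrime.ne_top' (I := maximalIdeal B)
        (top_le_iff.mp (ht.ge.trans (sup_le (le_maximalIdeal hJ) (map_maximalIdeal_le (algebraMap A B)))))
      refine Basic.smul_top_ne_top (M := M) hle ?_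
      have := congrArg (Submodule.comap (mB • (⊤ : Submodule B M)).mkQ) hc
      rw [Submodule.comap_top, ← Basic.smul_top_map J _ (Submodule.mkQ_surjective _),
        Submodule.comap_map_mkQ] at this
      rw [Submodule.sup_smul, sup_comm]
      exact this
    obtain ⟨x, hxJ, hreg, hn⟩ := Basic.exists_isSMulRegular_of_succ_le hQ h
    have hfib : ∀ m : M, x • m ∈ mB • (⊤ : Submodule B M) → m ∈ mB • (⊤ : Submodule B M) := by
      intro m hm
      rw [← Submodule.Quotient.mk_eq_zero] at hm ⊢
      exact hreg.right_eq_zero_of_smul hm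
    obtain ⟨hMreg, hMflat⟩ := regular_of_fibre (A := A) x hfib
    let l : M →ₗ[B] M := LinearMap.lsmul B M x
    let p : M →ₗ[B] QuotSMulTop x M := Submodule.mkQ _
    have hlp : Function.Exact l p := by
      rw [LinearMap.exact_iff, Submodule.ker_mkQ]
      ext m
      simp [l, Submodule.mem_smul_pointwise_iff_exists, eq_comm]
    let lA : M →ₗ[A] M := l.restrictScalars A
    let pA : M →ₗ[A] QuotSMulTop x M := p.restrictScalars A
    let f0 : PUnit.{u + 1} →ₗ[A] M := 0
    have x1 : Function.Injective f0 := fun a b _ => Subsingleton.elim a b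
    have x2 : Function.Exact f0 lA := fun m =>
      ⟨fun hm => ⟨PUnit.unit, (hMreg.right_eq_zero_of_smul hm).symm⟩,
        fun ⟨_, hm⟩ => by rw [← hm]; exact map_zero lA⟩
    have x3 : Function.Exact lA pA := hlp
    have x4 : Function.Surjective pA := Submodule.mkQ_surjective (x • (⊤ : Submodule B M))
    obtain ⟨-, hex⟩ := @rTensor_exact_of_flat_coker A _ PUnit.{u + 1} M M (QuotSMulTop x M) _ _ _ _ _ _ _ _
      inferInstance hMflat f0 lA pA x1 x2 x3 x4 N _ _
    have hregN : IsSMulRegular (M ⊗[A] N) x := by
      refine isSMulRegular_iff_right_eq_zero_of_smul.mpr fun z hz => ?_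
      have hz' : (l.restrictScalars A).rTensor N z = 0 := by
        rw [← hz]
        clear hz hex
        induction z using TensorProduct.induction_on with
        | zero => simp
        | add a b ha hb => simp only [map_add, smul_add, ha, hb]
        | tmul m y => simp [l, TensorProduct.smul_tmul']
      obtain ⟨w, rfl⟩ := (hex z).mp hz'
      rw [LinearMap.rTensor_zero]; rfl
    rw [SES.succ_le_idealDepth_iff J hxJ hregN]
    let P : M ⊗[A] N →ₗ[B] QuotSMulTop x M ⊗[A] N := TensorProduct.AlgebraTensorModule.rTensor A N p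
    have hP : Function.Surjective P := LinearMap.rTensor_surjective N (g := pA) x4
    have hker : LinearMap.ker P = x • (⊤ : Submodule B (M ⊗[A] N)) := by
      ext z
      rw [LinearMap.mem_ker, Submodule.mem_smul_pointwise_iff_exists]
      refine ((rTensor_exact N (f := lA) (g := pA) x3
        x4) z).trans ?_
      have hl : ∀ y, (l.restrictScalars A).rTensor N y = x • y := by
        intro y
        induction y using TensorProduct.induction_on with
        | zero => simp
        | add a b ha hb => simp only [map_add, smul_add, ha, hb]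
        | tmul m y => simp [l, TensorProduct.smul_tmul']
      exact ⟨fun ⟨y, hy⟩ => ⟨y, trivial, (hl y).symm.trans hy⟩, fun ⟨y, _, hy⟩ => ⟨y, (hl y).trans hy⟩⟩
    let e : QuotSMulTop x (M ⊗[A] N) ≃ₗ[B] QuotSMulTop x M ⊗[A] N :=
      Submodule.quotEquivOfEq _ _ hker.symm ≪≫ₗ P.quotKerEquivOfSurjective hP
    rw [Basic.idealDepth_congr J e]
    refine @ih (QuotSMulTop x M) _ _ _ _ _ hMflat (hn.trans (le_of_eq (Basic.idealDepth_congr J ?_)))
    -- the closed fibre of `M / x M` is that of `M` modulo `x`
    exact quotQuotSwap x mB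

end Local

section Global

variable {A B : Type u} [CommRing A] [CommRing B] [IsNoetherianRing A] [IsNoetherianRing B] [Algebra A B]
  (J : Ideal B) {M : Type u} [AddCommGroup M] [Module B M] [Module A M] [IsScalarTower A B M]
  [Module.Finite B M] [Module.Flat A M]

/-- `M ⊗ N` has `J`-depth two if all fibres of the flat module `M` have. -/
theorem two_le_idealDepth_tensor
    (h : ∀ q : PrimeSpectrum B, J ≤ q.asIdeal →
      2 ≤ LocCoh.idealDepth (q.asIdeal.map (algebraMap B (EGA4.FibLocRing A B q.asIdeal)))
        (EGA4.FibLocMod A B q.asIdeal M))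
    (N : Type u) [AddCommGroup N] [Module A N] [Module.Finite A N] :
    ((2 : ℕ) : ℕ∞) ≤ idealDepth J (M ⊗[A] N) := by
  have := finite_tensor (A := A) (B := B) (M := M) N
  rw [le_idealDepth_iff_forall]
  intro q hq
  let p := q.asIdeal.comap (algebraMap A B)
  let Ap := Localization.AtPrime p
  let Bq := Localization.AtPrime q.asIdeal
  let Mq := LocalizedModule q.asIdeal.primeCompl M
  let φ : Ap →+* Bq := Localization.localRingHom p q.asIdeal (algebraMap A B) rfl
  let _ : Algebra Ap Bq := φ.toAlgebra
  have : IsLocalHom (algebraMap Ap Bq) :=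
    inferInstanceAs (IsLocalHom (Localization.localRingHom p q.asIdeal (algebraMap A B) rfl))
  have : IsScalarTower A Ap Bq := IsScalarTower.of_algebraMap_eq fun a => by
    rw [RingHom.algebraMap_toAlgebra, Localization.localRingHom_to_map]
    exact (IsScalarTower.algebraMap_apply A B Bq a)
  let _ : Module Ap Mq := Module.compHom Mq φ
  have : IsScalarTower Ap Bq Mq := IsScalarTower.of_algebraMap_smul fun _ _ => rfl
  have : IsScalarTower A Ap Mq := IsScalarTower.of_algebraMap_smul fun a m => by
    show φ (algebraMap A Ap a) • m = a • m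
    rw [show φ (algebraMap A Ap a) = algebraMap A Bq a from
      (IsScalarTower.algebraMap_apply A Ap Bq a).symm, algebraMap_smul]
  have : Module.Flat A Mq := flat_localized q.asIdeal.primeCompl M
  have : Module.Flat Ap Mq := (Module.flat_iff_of_isLocalization Ap p.primeCompl Mq).mpr inferInstance
  have hI : (maximalIdeal Ap).map (algebraMap Ap Bq) = p.map (algebraMap A Bq) := by
    rw [← Localization.AtPrime.map_eq_maximalIdeal, Ideal.map_map, ← IsScalarTower.algebraMap_eq]
  have hfib : ((2 : ℕ) : ℕ∞) ≤ idealDepth (maximalIdeal Bq)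
      (Mq ⧸ ((maximalIdeal Ap).map (algebraMap Ap Bq) • (⊤ : Submodule Bq Mq))) := by
    rw [hI]
    refine (h q hq).trans (le_of_eq ?_)
    rw [show q.asIdeal.map (algebraMap B (EGA4.FibLocRing A B q.asIdeal)) =
        (maximalIdeal Bq).map (algebraMap Bq (EGA4.FibLocRing A B q.asIdeal)) by
      rw [← Localization.AtPrime.map_eq_maximalIdeal, Ideal.map_map, ← IsScalarTower.algebraMap_eq]]
    exact (Basic.idealDepth_eq_map_of_surjective Ideal.Quotient.mk_surjective (maximalIdeal Bq)).symm
  have h2 := le_idealDepth_tensor_of_fibre (A := Ap) (maximalIdeal Bq) (Ap ⊗[A] N) Mq hfib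
  rw [Basic.idealDepth_congr _ (TensorProduct.AlgebraTensorModule.cancelBaseChange A Ap Bq Mq N)] at h2
  let g := TensorProduct.AlgebraTensorModule.rTensor A N (LocalizedModule.mkLinearMap q.asIdeal.primeCompl M)
  rw [depth, Basic.idealDepth_congr _ ((IsLocalizedModule.linearEquiv q.asIdeal.primeCompl
    (LocalizedModule.mkLinearMap q.asIdeal.primeCompl (M ⊗[A] N)) g).extendScalarsOfIsLocalization
      q.asIdeal.primeCompl Bq)]
  exact h2

/-- `M ⊗ N` has property `Two` for any `N`. -/
theorem two_tensor
    (h : ∀ q : PrimeSpectrum B, J ≤ q.asIdeal →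
      2 ≤ LocCoh.idealDepth (q.asIdeal.map (algebraMap B (EGA4.FibLocRing A B q.asIdeal)))
        (EGA4.FibLocMod A B q.asIdeal M))
    (N : Type u) [AddCommGroup N] [Module A N] : Two J (M ⊗[A] N) := by
  have hfin : ∀ N₀ : Submodule A N, Module.Finite A N₀ → Two J (M ⊗[A] N₀) := fun N₀ _ => by
    have := finite_tensor (A := A) (B := B) (M := M) N₀
    exact two_of_two_le J (by simpa using two_le_idealDepth_tensor J h N₀)
  have hrange : ∀ z : M ⊗[A] N, ∃ N₀ : Submodule A N, Module.Finite A N₀ ∧
      z ∈ LinearMap.range (TensorProduct.AlgebraTensorModule.lTensor B M N₀.subtype) := by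
    intro z
    induction z using TensorProduct.induction_on with
    | zero => exact ⟨⊥, inferInstance, zero_mem _⟩
    | tmul m x =>
      exact ⟨Submodule.span A {x}, inferInstance,
        ⟨m ⊗ₜ ⟨x, Submodule.mem_span_singleton_self x⟩, rfl⟩⟩
    | add a b ha hb =>
      obtain ⟨N₁, h1, a, rfl⟩ := ha
      obtain ⟨N₂, h2, b, rfl⟩ := hb
      refine ⟨N₁ ⊔ N₂, inferInstance, TensorProduct.AlgebraTensorModule.lTensor B M (Submodule.inclusion le_sup_left) a +
        TensorProduct.AlgebraTensorModule.lTensor B M (Submodule.inclusion le_sup_right) b, ?_⟩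
      simp only [map_add, TensorProduct.AlgebraTensorModule.coe_lTensor, ← LinearMap.lTensor_comp_apply]
      rfl
  refine ⟨fun z hz => ?_, fun φ => ?_⟩
  · obtain ⟨N₀, hN₀, z, rfl⟩ := hrange z
    have hinj := Module.Flat.lTensor_preserves_injective_linearMap (M := M) N₀.subtype N₀.injective_subtype
    rw [(hfin N₀ hN₀).zero z fun a ha => hinj (by
      show TensorProduct.AlgebraTensorModule.lTensor B M N₀.subtype (a • z) =
        TensorProduct.AlgebraTensorModule.lTensor B M N₀.subtype 0
      rw [map_smul, hz a ha, map_zero]), map_zero]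
  · obtain ⟨s, hs⟩ := (inferInstance : Module.Finite B J).fg_top
    choose S hS hmem using fun a : J => hrange (φ a)
    let N₀ : Submodule A N := s.sup S
    have hN₀ : Module.Finite A N₀ := by
      rw [Module.Finite.iff_fg]
      exact Submodule.fg_finset_sup _ _ fun a _ => Module.Finite.iff_fg.mp (hS a)
    let ι := TensorProduct.AlgebraTensorModule.lTensor B M N₀.subtype
    have hinj : Function.Injective ι :=
      Module.Flat.lTensor_preserves_injective_linearMap (M := M) N₀.subtype N₀.injective_subtype
    have hφ : ∀ a, φ a ∈ LinearMap.range ι := by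
      intro a
      have : a ∈ Submodule.span B (s : Set J) := by rw [hs]; trivial
      induction this using Submodule.span_induction with
      | mem a ha =>
        obtain ⟨z, hz⟩ := hmem a
        refine ⟨TensorProduct.AlgebraTensorModule.lTensor B M (Submodule.inclusion (Finset.le_sup ha)) z, ?_⟩
        rw [← hz]
        simp only [ι, TensorProduct.AlgebraTensorModule.coe_lTensor, ← LinearMap.lTensor_comp_apply]
        rfl
      | zero => rw [map_zero]; exact zero_mem _
      | add a b _ _ ha hb => rw [map_add]; exact add_mem ha hb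
      | smul c a _ ha => rw [map_smul]; exact Submodule.smul_mem _ c ha
    let e := LinearEquiv.ofInjective ι hinj
    obtain ⟨m, hm⟩ := (hfin N₀ hN₀).ext (e.symm.toLinearMap ∘ₗ φ.codRestrict _ hφ)
    refine ⟨ι m, fun a => ?_⟩
    rw [← map_smul, ← hm]
    exact (congrArg Subtype.val (e.apply_symm_apply (φ.codRestrict _ hφ a))).symm

/-- Base change along a pushout. -/
theorem two_baseChange
    (h : ∀ q : PrimeSpectrum B, J ≤ q.asIdeal →
      2 ≤ LocCoh.idealDepth (q.asIdeal.map (algebraMap B (EGA4.FibLocRing A B q.asIdeal)))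
        (EGA4.FibLocMod A B q.asIdeal M))
    (A' B' : Type u) [CommRing A'] [CommRing B'] [Algebra A A'] [Algebra B B'] [Algebra A' B']
    [Algebra A B'] [IsScalarTower A B B'] [IsScalarTower A A' B'] [Algebra.IsPushout A B A' B'] :
    Two (J.map (algebraMap B B')) (B' ⊗[B] M) := by
  let e : M ⊗[A] A' ≃ₗ[B] B' ⊗[B] M :=
    (TensorProduct.AlgebraTensorModule.cancelBaseChange A B B M A').symm ≪≫ₗ
      TensorProduct.congr (LinearEquiv.refl B M)
        (Algebra.IsPushout.out (R := A) (S := B) (R' := A') (S' := B')).equiv ≪≫ₗ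
      TensorProduct.comm B M B'
  have h2 := (two_tensor J h A').of_equiv e
  refine ⟨fun z hz => h2.zero z fun a ha => ?_, fun φ => ?_⟩
  · rw [← algebraMap_smul B' a z]
    exact hz _ (Ideal.mem_map_of_mem _ ha)
  · let ψ : J →ₗ[B] B' ⊗[B] M :=
      { toFun := fun a => φ ⟨algebraMap B B' a.1, Ideal.mem_map_of_mem _ a.2⟩
        map_add' := fun a b => by
          rw [← map_add]; congr 1; exact Subtype.ext (map_add _ _ _)
        map_smul' := fun c a => by
          rw [RingHom.id_apply, ← algebraMap_smul B' c (φ _), ← map_smul]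
          congr 1
          exact Subtype.ext (map_mul (algebraMap B B') c a.1) }
    obtain ⟨m, hm⟩ := h2.ext ψ
    refine ⟨m, ?_⟩
    rintro ⟨a, ha⟩
    induction ha using Submodule.span_induction with
    | mem a ha =>
      obtain ⟨b, hb, rfl⟩ := ha
      exact (hm ⟨b, hb⟩).trans (algebraMap_smul B' b m).symm
    | zero => exact (map_zero φ).trans (zero_smul B' m).symm
    | add a b hA hB ha hb =>
      rw [show (⟨a + b, _⟩ : J.map (algebraMap B B')) = ⟨a, hA⟩ + ⟨b, hB⟩ from rfl, map_add, ha, hb,
        ← add_smul]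
      rfl
    | smul c a hA ha =>
      rw [show (⟨c • a, _⟩ : J.map (algebraMap B B')) = c • ⟨a, hA⟩ from rfl, map_smul, ha, ← smul_assoc]
      rfl

end Global

end Groth.Agent.Lib.QDepth
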